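import Cfsg.Agent.Lib.DegreeTools.Basic
import Cfsg.Agent.Lib.Char.Constituent
import Cfsg.Agent.Lib.Char.Clifford
import Cfsg.Agent.Lib.Char.Quotient

/-!
# Norms of characters and bounds on degrees

Elementary facts used in the proof that a group whose irreducible degrees are at most `b` has an
abelian subgroup of index at most `(b!)²`: the squared norm of a character is the group order
times a sum of squared multiplicities, and the degrees of a subgroup drop strictly as soon as no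
character of maximal degree restricts irreducibly to it.
-/

set_option autoImplicit false

open scoped ComplexConjugate

namespace CfsgLib.Char.MaxDegree

open CfsgLib.Char CfsgLib.DegreeTools

universe u

variable {G : Type u} [Group G]

/-- All irreducible degrees are at most `b`. -/
def DegLE (G : Type u) [Group G] (b : ℕ) : Prop :=
  ∀ χ : Cfsg.IrrCharacter G, Cfsg.charDegree (χ : G → ℂ) ≤ b

theorem DegLE.mono {a b : ℕ} (h : DegLE G a) (hab : a ≤ b) : DegLE G b :=
  fun χ => (h χ).trans hab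

variable [Fintype G]

/-- The squared norm sum of a function on the group. -/
noncomputable def sumSq {H : Type*} [Fintype H] (φ : H → ℂ) : ℝ := ∑ h, ‖φ h‖ ^ 2

theorem classInner_self_eq_sumSq (φ : G → ℂ) :
    Cfsg.classInner φ φ = ((sumSq φ / Nat.card G : ℝ) : ℂ) := by
  rw [classInner_self, sumSq, div_eq_inv_mul]

theorem sumSq_irr {φ : G → ℂ} (h : Cfsg.IsIrrCharacter G φ) : sumSq φ = Nat.card G :=
  DegreeTools.sum_norm_sq ⟨φ, h⟩

/-- Decomposition of a character into irreducibles, with its norm and degree. -/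
theorem decompose {φ : G → ℂ} (hφ : Cfsg.IsCharacter G φ) :
    ∃ m : Cfsg.IrrCharacter G → ℕ,
      (∀ ψ : Cfsg.IrrCharacter G, Cfsg.classInner φ (ψ : G → ℂ) = m ψ) ∧
      (∀ g, φ g = ∑ ψ : Cfsg.IrrCharacter G, (m ψ : ℂ) * (ψ : G → ℂ) g) ∧
      sumSq φ = Nat.card G * ((∑ ψ, m ψ ^ 2 : ℕ) : ℝ) ∧
      Cfsg.charDegree φ = ∑ ψ, m ψ * Cfsg.charDegree (ψ : G → ℂ) := by
  classical
  obtain ⟨m, hm, he⟩ := IsCharacter.exists_multiplicity hφ
  refine ⟨m, hm, he, ?_, ?_⟩
  · have h1 : Cfsg.classInner φ φ = ((∑ ψ, m ψ ^ 2 : ℕ) : ℂ) := by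
      rw [classInner_eq_sum_irr (IsCharacter.isClassFunction hφ)]
      push_cast
      refine Finset.sum_congr rfl fun ψ _ => ?_
      rw [hm, IsCharacter.classInner_comm (isCharacter_irr ψ) hφ, hm, sq]
    rw [classInner_self_eq_sumSq, ← Complex.ofReal_natCast, Complex.ofReal_inj,
      div_eq_iff (Nat.cast_ne_zero.mpr Nat.card_pos.ne')] at h1
    rw [h1, mul_comm]
  · apply Nat.cast_injective (R := ℂ)
    rw [charDegree_cast hφ, he 1]
    push_cast
    exact Finset.sum_congr rfl fun ψ _ => by rw [deg_cast]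

/-- A character all of whose possible constituents have degree at most `b` has norm at least its
degree divided by `b`. -/
theorem sumSq_ge {φ : G → ℂ} (hφ : Cfsg.IsCharacter G φ) {b : ℕ} (hb : DegLE G b) :
    (Cfsg.charDegree φ : ℝ) * Nat.card G ≤ b * sumSq φ := by
  obtain ⟨m, -, -, hs, hd⟩ := decompose hφ
  have h : Cfsg.charDegree φ ≤ b * ∑ ψ, m ψ ^ 2 := by
    rw [hd, Finset.mul_sum]
    refine Finset.sum_le_sum fun ψ _ => ?_
    calc m ψ * Cfsg.charDegree (ψ : G → ℂ) ≤ m ψ * b := Nat.mul_le_mul le_rfl (hb ψ)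
      _ ≤ b * m ψ ^ 2 := by
        rw [mul_comm]
        exact Nat.mul_le_mul le_rfl (Nat.le_self_pow two_ne_zero _)
  calc (Cfsg.charDegree φ : ℝ) * Nat.card G
      ≤ ((b * ∑ ψ, m ψ ^ 2 : ℕ) : ℝ) * Nat.card G :=
        mul_le_mul_of_nonneg_right (by exact_mod_cast h) (Nat.cast_nonneg _)
    _ = b * sumSq φ := by rw [hs]; push_cast; ring

theorem isIrr_of_sumSq {φ : G → ℂ} (hφ : Cfsg.IsCharacter G φ) (h : sumSq φ = Nat.card G) :
    Cfsg.IsIrrCharacter G φ := by
  refine IsCharacter.isIrrCharacter_of_norm_one hφ ?_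
  rw [classInner_self_eq_sumSq, h, div_self (Nat.cast_ne_zero.mpr Nat.card_pos.ne'),
    Complex.ofReal_one]

/-- Every irreducible character of a subgroup lies under one of the group, of at least its
degree. -/
theorem exists_over (H : Subgroup G) [Fintype H] (θ : Cfsg.IrrCharacter H) :
    ∃ χ : Cfsg.IrrCharacter G, Cfsg.classInner (fun h : H => (χ : G → ℂ) h) θ ≠ 0 ∧
      Cfsg.charDegree (θ : H → ℂ) ≤ Cfsg.charDegree (χ : G → ℂ) ∧
      (Cfsg.charDegree (θ : H → ℂ) = Cfsg.charDegree (χ : G → ℂ) →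
        (fun h : H => (χ : G → ℂ) h) = θ) := by
  have hc := IsCharacter.indFun H (isCharacter_irr θ)
  have hne : Cfsg.indFun H (θ : H → ℂ) ≠ 0 := fun h0 => by
    have := congrFun h0 1
    rw [indFun_one, Pi.zero_apply, mul_eq_zero] at this
    rcases this with h1 | h1
    · exact H.index_ne_zero_of_finite (Nat.cast_eq_zero.mp h1)
    · exact IsIrrCharacter.apply_one_ne_zero θ.2 h1
  obtain ⟨χ, hχ, h⟩ := IsCharacter.exists_constituent hc hne
  rw [classInner_indFun H _ (IsIrrCharacter.isClassFunction hχ),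
    IsCharacter.classInner_comm (isCharacter_irr θ)
      (IsCharacter.restrict (IsIrrCharacter.isCharacter hχ) H)] at h
  obtain ⟨a, c, ha, hc', hle, heq⟩ := IsCharacter.constituent_degree_le
    (IsCharacter.restrict (IsIrrCharacter.isCharacter hχ) H) θ.2 h
  have e1 : Cfsg.charDegree (θ : H → ℂ) = a :=
    Nat.cast_injective (R := ℂ) (by rw [deg_cast, ha])
  have e2 : Cfsg.charDegree χ = c :=
    Nat.cast_injective (R := ℂ) (by
      rw [charDegree_cast (IsIrrCharacter.isCharacter hχ), ← hc']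
      simp)
  exact ⟨⟨χ, hχ⟩, h, by rw [e1]; exact hle.trans_eq e2.symm,
    fun he => heq (by rw [← e1, he]; exact e2)⟩

theorem DegLE.subgroup {b : ℕ} (hb : DegLE G b) (H : Subgroup G) : DegLE H b := by
  classical
  intro θ
  obtain ⟨χ, -, hle, -⟩ := exists_over H θ
  exact hle.trans (hb χ)

/-- If no character of degree `b` restricts irreducibly, the degrees drop. -/
theorem DegLE.drop {b : ℕ} (hb : DegLE G b) (H : Subgroup G)
    (h : ∀ χ : Cfsg.IrrCharacter G, Cfsg.charDegree (χ : G → ℂ) = b →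
      ¬ Cfsg.IsIrrCharacter H (fun h : H => (χ : G → ℂ) h)) : DegLE H (b - 1) := by
  classical
  intro θ
  obtain ⟨χ, -, hle, heq⟩ := exists_over H θ
  rcases (hle.trans (hb χ)).lt_or_eq with hlt | he
  · omega
  · refine absurd ?_ (h χ (le_antisymm (hb χ) (he ▸ hle)))
    rw [heq (le_antisymm hle ((hb χ).trans he.ge))]
    exact θ.2

/-- The restriction of a character being irreducible passes to intermediate subgroups. -/
theorem irr_of_restrict (H : Subgroup G) [Fintype H] {φ : G → ℂ} (hφ : Cfsg.IsCharacter G φ)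
    (h : Cfsg.IsIrrCharacter H (fun h : H => φ h)) : Cfsg.IsIrrCharacter G φ := by
  obtain ⟨m, -, he, hs, hd⟩ := decompose hφ
  obtain ⟨k, -, hk, hk'⟩ : ∃ k : Cfsg.IrrCharacter G → Cfsg.IrrCharacter H → ℕ,
      True ∧ (∀ (ψ : Cfsg.IrrCharacter G) (θ : Cfsg.IrrCharacter H),
        Cfsg.classInner (fun h : H => (ψ : G → ℂ) h) (θ : H → ℂ) = k ψ θ) ∧
      ∀ ψ, ∃ θ, k ψ θ ≠ 0 := by
    choose k hk using fun (ψ : Cfsg.IrrCharacter G) (θ : Cfsg.IrrCharacter H) =>
      IsCharacter.classInner_nat (IsCharacter.restrict (isCharacter_irr ψ) H) (isCharacter_irr θ)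
    refine ⟨k, trivial, hk, fun ψ => ?_⟩
    obtain ⟨θ, hθ, hne⟩ := IsCharacter.exists_constituent
      (IsCharacter.restrict (isCharacter_irr ψ) H)
      (fun h0 => IsIrrCharacter.apply_one_ne_zero ψ.2 (congrFun h0 1))
    exact ⟨⟨θ, hθ⟩, fun h0 => hne (by
      rw [show θ = ((⟨θ, hθ⟩ : Cfsg.IrrCharacter H) : H → ℂ) from rfl, hk, h0, Nat.cast_zero])⟩
  have hres : (fun h : H => φ h) = ∑ ψ, (m ψ : ℂ) • fun h : H => (ψ : G → ℂ) h := by
    funext x
    rw [Finset.sum_apply, he]
    rfl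
  set θ₀ : Cfsg.IrrCharacter H := ⟨_, h⟩
  have hone : ∀ θ : Cfsg.IrrCharacter H, ((∑ ψ, m ψ * k ψ θ : ℕ) : ℂ) =
      Cfsg.classInner (θ₀ : H → ℂ) (θ : H → ℂ) := fun θ => by
    rw [show (θ₀ : H → ℂ) = fun h : H => φ h from rfl, hres, classInner_sum_left]
    push_cast
    exact Finset.sum_congr rfl fun ψ _ => by rw [classInner_smul_left, hk]
  have h1 : ∀ θ, θ ≠ θ₀ → ∀ ψ, m ψ * k ψ θ = 0 := fun θ hne ψ => by
    have := hone θ
    rw [classInner_irr_ne θ₀.2 θ.2 (fun e => hne (Subtype.ext e.symm)), Nat.cast_eq_zero] at this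
    exact Finset.sum_eq_zero_iff.mp this ψ (Finset.mem_univ _)
  have h0 : ∑ ψ, m ψ * k ψ θ₀ = 1 := by
    have := hone θ₀
    rw [classInner_irr_self θ₀.2] at this
    exact_mod_cast this
  have hsum : ∑ ψ, m ψ ≤ 1 := by
    refine le_trans (Finset.sum_le_sum fun ψ _ => ?_) h0.le
    by_cases hm : m ψ = 0
    · simp [hm]
    · obtain ⟨θ, hθ⟩ := hk' ψ
      by_cases ht : θ = θ₀
      · subst ht
        exact Nat.le_mul_of_pos_right _ (Nat.pos_of_ne_zero hθ)
      · exact absurd (h1 θ ht ψ) (mul_ne_zero hm hθ)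
  have hex : ∑ ψ, m ψ ≠ 0 := fun hz => by
    have hd0 : Cfsg.charDegree φ = 0 := by
      rw [hd]
      exact Finset.sum_eq_zero fun ψ hψ => by
        rw [Finset.sum_eq_zero_iff.mp hz ψ hψ, zero_mul]
    have hp : φ 1 = 0 := by rw [← charDegree_cast hφ, hd0, Nat.cast_zero]
    exact IsIrrCharacter.apply_one_ne_zero h (by simpa using hp)
  refine isIrr_of_sumSq hφ ?_
  rw [hs]
  have hsq : ∑ ψ, m ψ ^ 2 = ∑ ψ, m ψ := Finset.sum_congr rfl fun ψ hψ => by
    have hle := (Finset.single_le_sum (fun i _ => Nat.zero_le (m i)) hψ).trans hsum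
    interval_cases (m ψ) <;> norm_num
  rw [hsq, show ∑ ψ, m ψ = 1 by omega]
  simp

/-- Clifford theory in numbers: the norm of the restriction to a normal subgroup is `e² s`, the
degree is `e s` times the degree of a constituent, and all constituents have that degree. -/
theorem clifford_numbers (N : Subgroup G) [N.Normal] [Fintype N] (χ : Cfsg.IrrCharacter G)
    (θ : Cfsg.IrrCharacter N)
    (h : Cfsg.classInner (fun n : N => (χ : G → ℂ) n) (θ : N → ℂ) ≠ 0) :
    ∃ e s : ℕ, 0 < e ∧ 0 < s ∧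
      sumSq (fun n : N => (χ : G → ℂ) n) = Nat.card N * ((e ^ 2 * s : ℕ) : ℝ) ∧
      Cfsg.charDegree (χ : G → ℂ) = e * s * Cfsg.charDegree (θ : N → ℂ) := by
  classical
  have hres := IsCharacter.restrict (isCharacter_irr χ) N
  obtain ⟨m, hm, -, hs, hd⟩ := decompose hres
  have hconj : ∀ φ : Cfsg.IrrCharacter N, m φ ≠ 0 →
      m φ = m θ ∧ Cfsg.charDegree (φ : N → ℂ) = Cfsg.charDegree (θ : N → ℂ) := by
    intro φ hφ
    have h1 : Cfsg.classInner (fun n : N => (χ : G → ℂ) n) (φ : N → ℂ) ≠ 0 := by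
      rw [hm]; exact_mod_cast hφ
    obtain ⟨g, hg⟩ := exists_conjG_eq φ.2 θ.2 χ.2
      (by rw [classInner_indFun N _ (IsIrrCharacter.isClassFunction χ.2),
        IsCharacter.classInner_comm (isCharacter_irr φ) hres]; exact h1)
      (by rw [classInner_indFun N _ (IsIrrCharacter.isClassFunction χ.2),
        IsCharacter.classInner_comm (isCharacter_irr θ) hres]; exact h)
    refine ⟨Nat.cast_injective (R := ℂ) ?_, Nat.cast_injective (R := ℂ) ?_⟩
    · rw [← hm, ← hm, hg]
      conv_lhs => rw [← conjG_coe (IsIrrCharacter.isClassFunction χ.2) g, classInner_conjG]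
    · rw [deg_cast, deg_cast, hg, conjG_apply]
      exact congrArg _ (Subtype.ext (by simp))
  refine ⟨m θ, (Finset.univ.filter fun φ => m φ ≠ 0).card, Nat.pos_of_ne_zero fun h0 => h ?_,
    Finset.card_pos.mpr ⟨θ, ?_⟩, ?_, ?_⟩
  · rw [hm, h0, Nat.cast_zero]
  · rw [Finset.mem_filter]
    exact ⟨Finset.mem_univ _, fun h0 => h (by rw [hm, h0, Nat.cast_zero])⟩
  · rw [hs]
    congr 2
    rw [← Finset.sum_filter_of_ne (p := fun φ => m φ ≠ 0) (fun φ _ hne h0 => hne (by simp [h0])),
      Finset.sum_congr rfl fun φ hφ => by rw [(hconj φ (Finset.mem_filter.mp hφ).2).1],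
      Finset.sum_const, smul_eq_mul, mul_comm]
  · have hdd : Cfsg.charDegree (χ : G → ℂ) = Cfsg.charDegree (fun n : N => (χ : G → ℂ) n) := by
      simp [Cfsg.charDegree]
    rw [hdd, hd,
      ← Finset.sum_filter_of_ne (p := fun φ => m φ ≠ 0) (fun φ _ hne h0 => hne (by simp [h0])),
      Finset.sum_congr rfl fun φ hφ => by
        rw [(hconj φ (Finset.mem_filter.mp hφ).2).1, (hconj φ (Finset.mem_filter.mp hφ).2).2],
      Finset.sum_const, smul_eq_mul]
    ring

/-- The norm of the restriction to a normal subgroup divides the square of the degree. -/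
theorem exists_norm_dvd (N : Subgroup G) [N.Normal] [Fintype N] (χ : Cfsg.IrrCharacter G) :
    ∃ n : ℕ, 0 < n ∧ n ∣ Cfsg.charDegree (χ : G → ℂ) ^ 2 ∧
      sumSq (fun n : N => (χ : G → ℂ) n) = Nat.card N * (n : ℝ) := by
  obtain ⟨θ, hθ, hne⟩ := IsCharacter.exists_constituent
    (IsCharacter.restrict (isCharacter_irr χ) N)
    (fun h0 => IsIrrCharacter.apply_one_ne_zero χ.2 (congrFun h0 1))
  obtain ⟨e, s, he, hs, h1, h2⟩ := clifford_numbers N χ ⟨θ, hθ⟩ hne
  exact ⟨e ^ 2 * s, by positivity, ⟨s * Cfsg.charDegree θ ^ 2, by rw [h2]; ring⟩, h1⟩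

theorem norm_hom_apply (f : G →* ℂˣ) (g : G) : ‖(f g : ℂ)‖ = 1 := by
  refine norm_eq_one_of_pow_orderOf (g := g) ?_
  rw [← Units.val_pow_eq_pow_val, ← map_pow, pow_orderOf_eq_one, map_one, Units.val_one]

theorem norm_deg_one (χ : Cfsg.IrrCharacter G) (h : Cfsg.charDegree (χ : G → ℂ) = 1) (g : G) :
    ‖(χ : G → ℂ) g‖ = 1 := by
  obtain ⟨f, hf⟩ := exists_hom_of_apply_one_eq_one (isCharacter_irr χ)
    ((deg_eq_one_iff χ).mp h)
  rw [hf]
  exact norm_hom_apply f g

/-- Column orthogonality without the linear characters. -/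
theorem sum_nonlinear_col (g : G) :
    ∑ χ : Cfsg.IrrCharacter G,
        (if Cfsg.charDegree (χ : G → ℂ) ≠ 1 then ‖(χ : G → ℂ) g‖ ^ 2 else 0) =
      (Nat.card (Subgroup.centralizer ({g} : Set G)) : ℝ) - (commutator G).index := by
  classical
  rw [← sum_norm_sq_col g, ← card_linear_deg, Nat.card_eq_fintype_card, Fintype.card_subtype,
    eq_sub_iff_add_eq, ← Finset.sum_boole, ← Finset.sum_add_distrib]
  refine Finset.sum_congr rfl fun χ _ => ?_
  by_cases h : Cfsg.charDegree (χ : G → ℂ) = 1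
  · simp [h, norm_deg_one χ h g]
  · simp [h]

/-- A linear character only: the derived subgroup lies in the kernel exactly for those. -/
theorem deg_one_of_commutator_le (χ : Cfsg.IrrCharacter G)
    (h : ∀ g ∈ commutator G, (χ : G → ℂ) g = (χ : G → ℂ) 1) :
    Cfsg.charDegree (χ : G → ℂ) = 1 := by
  obtain ⟨ψ, hψ, he⟩ := IsIrrCharacter.exists_deflate χ.2 (commutator G) h
  rw [deg_eq_one_iff, he, Function.comp_apply, map_one]
  exact apply_one_eq_one_of_comm (fun a b => (inferInstance : CommGroup (Abelianization G)).mul_comm a b) hψ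

end CfsgLib.Char.MaxDegree
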