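import Cfsg.Agent.Lib.Char.MaxDegree.Basic
import Cfsg.Agent.Lib.Char.Perm
import Cfsg.Agent.Lib.CharDeep.Glauberman.Gallagher

/-!
# The step through a perfect derived subgroup

If the derived subgroup of `G` is perfect and non-trivial and all irreducible degrees are at most
`b`, then `b ≥ 5`, and either some element centralizer of index at most `b²` has all degrees at
most `b - 1`, or some normal subgroup of index at most `b³(b²+1)` has all degrees at most `b / 2`.
-/

set_option autoImplicit false
set_option linter.unusedSectionVars false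

open scoped ComplexConjugate

namespace CfsgLib.Char.MaxDegree

open CfsgLib.Char CfsgLib.DegreeTools

universe u

section Simple

variable {T : Type u} [Group T] [Fintype T]

theorem trace_of_involution (hperf : commutator T = ⊤) {n : ℕ}
    (ρ : Representation ℂ T (Fin n → ℂ)) {t : T} (ht : t * t = 1) :
    ∃ j : ℕ, Even j ∧ j ≤ n ∧ ρ.character t = (n : ℂ) - 2 * j := by
  classical
  obtain ⟨bs, μ, hμ, hk⟩ := exists_eigenbasis ρ t
  have h1 : ∀ i, ρ t (bs i) = μ i • bs i := fun i => by simpa using hk 1 i
  have hμ2 : ∀ i, μ i = 1 ∨ μ i = -1 := fun i => by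
    have h2 : μ i ^ 2 = 1 := by
      have hdvd : orderOf t ∣ 2 := orderOf_dvd_of_pow_eq_one (by rw [sq]; exact ht)
      obtain ⟨c, hc⟩ := hdvd
      rw [hc, pow_mul, hμ i, one_pow]
    exact sq_eq_one_iff.mp h2
  let f : T →* ℂˣ := (LinearMap.det.comp (ρ : T →* Module.End ℂ (Fin n → ℂ))).toHomUnits
  have hf : f t = 1 :=
    MonoidHom.mem_ker.mp ((Abelianization.commutator_subset_ker f) (hperf ▸ Subgroup.mem_top t))
  have hdet : ∏ i, μ i = 1 := by
    have h2 : LinearMap.det (ρ t) = 1 := congrArg Units.val hf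
    rw [← LinearMap.det_toMatrix bs] at h2
    have h3 : LinearMap.toMatrix bs bs (ρ t) = Matrix.diagonal μ := by
      ext i j
      rw [LinearMap.toMatrix_apply, h1, map_smul, Finsupp.smul_apply, Module.Basis.repr_self,
        Finsupp.single_apply, Matrix.diagonal_apply, smul_eq_mul]
      by_cases hij : j = i
      · subst hij; simp
      · rw [if_neg hij, if_neg (Ne.symm hij), mul_zero]
    rwa [h3, Matrix.det_diagonal] at h2
  have hn : Module.finrank ℂ (Fin n → ℂ) = n := by simp
  set s : Finset (Fin (Module.finrank ℂ (Fin n → ℂ))) :=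
    Finset.univ.filter fun i => μ i = -1
  have hprod : ∏ i, μ i = (-1) ^ s.card := by
    rw [← Finset.prod_const, Finset.prod_filter]
    refine Finset.prod_congr rfl fun i _ => ?_
    split_ifs with h
    · exact h
    · exact (hμ2 i).resolve_right h
  refine ⟨s.card, ?_, (Finset.card_le_univ _).trans (by simp), ?_⟩
  · rw [hprod] at hdet
    by_contra hodd
    rw [Nat.not_even_iff_odd] at hodd
    rw [hodd.neg_one_pow] at hdet
    norm_num at hdet
  · rw [show ρ.character t = ∑ i, μ i from trace_eq_sum_of_eigen _ bs μ h1]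
    have : ∀ i, μ i = 1 - 2 * (if μ i = -1 then (1 : ℂ) else 0) := fun i => by
      rcases hμ2 i with h | h <;> rw [h] <;> norm_num
    rw [Finset.sum_congr rfl fun i _ => this i, Finset.sum_sub_distrib, ← Finset.mul_sum,
      Finset.sum_boole, Finset.sum_const, Finset.card_univ, Fintype.card_fin, nsmul_eq_mul,
      mul_one, show (Module.finrank ℂ (Fin n → ℂ) : ℂ) = n by rw [hn]]

/-- A non-abelian simple group has an irreducible character of degree at least five. -/
theorem exists_deg_ge_five [IsSimpleGroup T] (hperf : commutator T = ⊤) :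
    ∃ χ : Cfsg.IrrCharacter T, 5 ≤ Cfsg.charDegree (χ : T → ℂ) := by
  classical
  by_contra hcon
  push Not at hcon
  have hcen : Subgroup.center T = ⊥ := by
    rcases (inferInstance : (Subgroup.center T).Normal).eq_bot_or_eq_top with h | h
    · exact h
    · refine absurd hperf ?_
      rw [(commutator_eq_bot_iff_center_eq_top (G := T)).mpr h]
      exact bot_ne_top
  have hfaith : ∀ χ : Cfsg.IrrCharacter T, Cfsg.charDegree (χ : T → ℂ) ≠ 1 →
      ∀ g, (χ : T → ℂ) g = (χ : T → ℂ) 1 → g = 1 := by
    intro χ h1 g hg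
    rcases (charKer_normal (isCharacter_irr χ)).eq_bot_or_eq_top with h | h
    · exact Subgroup.mem_bot.mp (h ▸ (mem_charKer (isCharacter_irr χ)).mpr hg)
    · exact absurd (deg_one_of_commutator_le χ fun x _ =>
        (mem_charKer (isCharacter_irr χ)).mp (h ▸ Subgroup.mem_top x)) h1
  have hone : ∀ χ : Cfsg.IrrCharacter T, Cfsg.charDegree (χ : T → ℂ) = 1 → χ = oneChar T := by
    intro χ h1
    obtain ⟨f, hf⟩ := exists_hom_of_apply_one_eq_one (isCharacter_irr χ) ((deg_eq_one_iff χ).mp h1)
    refine Subtype.ext (funext fun g => ?_)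
    rw [hf]
    simp [MonoidHom.mem_ker.mp
      ((Abelianization.commutator_subset_ker f) (hperf ▸ Subgroup.mem_top g))]
  have h2dvd : 2 ∣ Nat.card T := by
    by_contra hodd
    have hdeg : ∀ χ : Cfsg.IrrCharacter T,
        Cfsg.charDegree (χ : T → ℂ) = 1 ∨ Cfsg.charDegree (χ : T → ℂ) = 3 := by
      intro χ
      have h0 := deg_pos χ
      have h4 := hcon χ
      have hd := deg_dvd_card χ
      set d := Cfsg.charDegree (χ : T → ℂ)
      interval_cases d
      · exact Or.inl rfl
      · exact absurd hd hodd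
      · exact Or.inr rfl
      · exact absurd ((dvd_trans (by norm_num) hd)) hodd
    have hsum := sum_deg_sq (G := T)
    rw [← Finset.add_sum_erase _ _ (Finset.mem_univ (oneChar T)), deg_oneChar,
      Finset.sum_congr rfl fun χ hχ => by
        rw [(hdeg χ).resolve_left fun h => (Finset.mem_erase.mp hχ).1 (hone χ h)],
      Finset.sum_const, smul_eq_mul] at hsum
    set i := (Finset.univ.erase (oneChar T)).card with hi
    have h3 : 3 ∣ Nat.card T := by
      by_cases hz : i = 0
      · exfalso
        rw [hz] at hsum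
        have hb : (⊤ : Subgroup T) = ⊥ := by
          refine Subgroup.eq_bot_of_card_le _ ?_
          rw [Subgroup.card_top]
          omega
        exact (bot_ne_top (α := Subgroup T)) hb.symm
      · obtain ⟨χ, hχ⟩ := Finset.card_pos.mp (Nat.pos_of_ne_zero hz)
        rw [← (hdeg χ).resolve_left fun h => (Finset.mem_erase.mp hχ).1 (hone χ h)]
        exact deg_dvd_card χ
    omega
  obtain ⟨t, ht⟩ := exists_prime_orderOf_dvd_card' (hp := ⟨Nat.prime_two⟩) 2 h2dvd
  have ht1 : t ≠ 1 := fun h => by simp [h] at ht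
  have htt : t * t = 1 := by rw [← sq, ← ht, pow_orderOf_eq_one]
  have hval : ∀ χ : Cfsg.IrrCharacter T, χ ≠ oneChar T →
      (Cfsg.charDegree (χ : T → ℂ) : ℂ) * (χ : T → ℂ) t =
        -3 * (if Cfsg.charDegree (χ : T → ℂ) = 3 then 1 else 0) := by
    intro χ hχ
    have hd1 : Cfsg.charDegree (χ : T → ℂ) ≠ 1 := fun h => hχ (hone χ h)
    have hf := hfaith χ hd1
    have hnorm : ‖(χ : T → ℂ) t‖ ≠ Cfsg.charDegree (χ : T → ℂ) := fun h => by
      have := mem_center_of_norm_eq χ hf t h
      rw [hcen, Subgroup.mem_bot] at this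
      exact ht1 this
    obtain ⟨n, ρ, -, hρ⟩ := χ.2
    have hdn : Cfsg.charDegree (χ : T → ℂ) = n := by
      apply Nat.cast_injective (R := ℂ)
      rw [deg_cast, ← hρ, Representation.char_one]
      simp
    obtain ⟨j, hj, hjn, hjv⟩ := trace_of_involution hperf ρ htt
    rw [hρ] at hjv
    rw [hjv, hdn] at hnorm
    have h0 := deg_pos χ
    have h4 := hcon χ
    rw [hdn] at h0 h4 hd1 ⊢
    rw [hjv]
    interval_cases n
    · exact absurd rfl hd1
    · interval_cases j <;> first | exact absurd hj (by decide) | norm_num at hnorm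
    · interval_cases j <;> first | exact absurd hj (by decide) | (norm_num at hnorm; done) | norm_num
    · interval_cases j <;> first | exact absurd hj (by decide) | (norm_num at hnorm; done) | norm_num
  have hs := sum_deg_mul t ht1
  rw [← Finset.add_sum_erase _ _ (Finset.mem_univ (oneChar T)), deg_oneChar, coe_oneChar,
    Finset.sum_congr rfl fun χ hχ => hval χ (Finset.mem_erase.mp hχ).1, ← Finset.mul_sum,
    Finset.sum_boole, Nat.cast_one, mul_one] at hs
  set j := ((Finset.univ.erase (oneChar T)).filter fun χ : Cfsg.IrrCharacter T =>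
    Cfsg.charDegree (χ : T → ℂ) = 3).card
  have h3 : ((1 - 3 * (j : ℤ) : ℤ) : ℂ) = 0 := by push_cast; linear_combination hs
  have h4 : (1 - 3 * (j : ℤ)) = 0 := by exact_mod_cast h3
  omega

end Simple

/-- A non-trivial perfect group has an irreducible character of degree at least five. -/
theorem exists_deg_ge_five_of_perfect {P : Type u} [Group P] [Fintype P] [Nontrivial P]
    (hperf : commutator P = ⊤) : ∃ χ : Cfsg.IrrCharacter P, 5 ≤ Cfsg.charDegree (χ : P → ℂ) := by
  classical
  obtain ⟨W, -, hW⟩ := Finite.exists_le_maximal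
    (p := fun W : Subgroup P => W.Normal ∧ W ≠ ⊤) (a := ⊥) ⟨inferInstance, bot_ne_top⟩
  have := hW.1.1
  have hnt : Nontrivial (P ⧸ W) := by
    rw [← not_subsingleton_iff_nontrivial, QuotientGroup.subsingleton_iff]
    exact hW.1.2
  have : IsSimpleGroup (P ⧸ W) := ⟨fun N hN => by
    by_cases hNtop : N = ⊤
    · exact Or.inr hNtop
    · left
      have h1 : W ≤ N.comap (QuotientGroup.mk' W) := fun x hx => by
        simp [(QuotientGroup.eq_one_iff x).mpr hx]
      have h2 := hW.2 ⟨hN.comap _, fun h => hNtop (Subgroup.comap_injective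
        (QuotientGroup.mk'_surjective W) (h.trans (Subgroup.comap_top _).symm))⟩ h1
      rw [eq_bot_iff]
      intro q hq
      obtain ⟨x, rfl⟩ := QuotientGroup.mk'_surjective W q
      rw [Subgroup.mem_bot, QuotientGroup.mk'_apply, QuotientGroup.eq_one_iff]
      exact h2 hq⟩
  have hq : commutator (P ⧸ W) = ⊤ := by
    rw [commutator_def, ← Subgroup.map_top_of_surjective _ (QuotientGroup.mk'_surjective W),
      ← Subgroup.map_commutator, ← commutator_def, hperf]
  obtain ⟨χ, hχ⟩ := exists_deg_ge_five hq
  exact ⟨⟨_, IsIrrCharacter.comp_surjective χ.2 _ (QuotientGroup.mk'_surjective W)⟩,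
    hχ.trans_eq (by simp [Cfsg.charDegree])⟩

/-- Characters of two quotients by normal subgroups generating the group multiply to an
irreducible character. -/
theorem isIrr_mul_of_sup_eq_top {P : Type u} [Group P] [Fintype P] (A B : Subgroup P) [A.Normal]
    [B.Normal] (hAB : A ⊔ B = ⊤) (α : Cfsg.IrrCharacter (P ⧸ A)) (β : Cfsg.IrrCharacter (P ⧸ B)) :
    Cfsg.IsIrrCharacter P
      (((α : P ⧸ A → ℂ) ∘ QuotientGroup.mk' A) * ((β : P ⧸ B → ℂ) ∘ QuotientGroup.mk' B)) := by
  classical
  let f : P →* (P ⧸ A) × (P ⧸ B) := (QuotientGroup.mk' A).prod (QuotientGroup.mk' B)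
  have hf : Function.Surjective f := by
    rintro ⟨p, q⟩
    obtain ⟨x, rfl⟩ := QuotientGroup.mk'_surjective A p
    obtain ⟨y, rfl⟩ := QuotientGroup.mk'_surjective B q
    have hmem : x⁻¹ * y ∈ A ⊔ B := hAB ▸ Subgroup.mem_top _
    rw [← SetLike.mem_coe, Subgroup.mul_normal A B] at hmem
    obtain ⟨a, ha, c, hc, he⟩ := hmem
    refine ⟨x * a, Prod.ext ?_ ?_⟩
    · exact (QuotientGroup.eq.mpr (by simpa using ha) : QuotientGroup.mk (x * a) = QuotientGroup.mk x)
    · have : x * a * c = y := by rw [mul_assoc, show a * c = x⁻¹ * y from he, mul_inv_cancel_left]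
      refine (QuotientGroup.eq (s := B)).mpr ?_
      rw [← this, inv_mul_cancel_left]
      exact hc
  set φ : (P ⧸ A) × (P ⧸ B) → ℂ := fun z => (α : P ⧸ A → ℂ) z.1 * (β : P ⧸ B → ℂ) z.2
  have hφc : Cfsg.IsCharacter _ φ :=
    IsCharacter.mul (IsCharacter.comp (isCharacter_irr α) (MonoidHom.fst (P ⧸ A) (P ⧸ B)))
      (IsCharacter.comp (isCharacter_irr β) (MonoidHom.snd (P ⧸ A) (P ⧸ B)))
  have hφ : Cfsg.IsIrrCharacter _ φ := by
    refine isIrr_of_sumSq hφc ?_
    rw [sumSq, Fintype.sum_prod_type, Nat.card_prod, Nat.cast_mul,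
      ← DegreeTools.sum_norm_sq α, ← DegreeTools.sum_norm_sq β, Finset.sum_mul_sum]
    simp [φ, mul_pow]
  exact IsIrrCharacter.comp_surjective hφ f hf

variable {G : Type u} [Group G] [Fintype G]

/-- Membership in the preimage of the centre of a quotient. -/
theorem mem_comap_center {U : Subgroup G} [U.Normal] {g : G} :
    g ∈ (Subgroup.center (G ⧸ U)).comap (QuotientGroup.mk' U) ↔
      ∀ h : G, g * h * g⁻¹ * h⁻¹ ∈ U := by
  rw [Subgroup.mem_comap, Subgroup.mem_center_iff]
  constructor
  · intro hg h
    rw [← QuotientGroup.eq_one_iff]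
    have := hg (QuotientGroup.mk h)
    simp only [QuotientGroup.mk'_apply] at this
    simp only [QuotientGroup.mk_mul, QuotientGroup.mk_inv]
    rw [← this]
    group
  · intro hg q
    induction q using QuotientGroup.induction_on with
    | H h =>
      have := (QuotientGroup.eq_one_iff _).mpr (hg h)
      simp only [QuotientGroup.mk_mul, QuotientGroup.mk_inv] at this
      rw [mul_inv_eq_one, mul_inv_eq_iff_eq_mul] at this
      exact this.symm

variable (G) in
/-- The maximal normal subgroups of `G` strictly below the derived subgroup. -/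
def IsTop (U : Subgroup G) : Prop :=
  Maximal (fun N : Subgroup G => N.Normal ∧ N ≤ commutator G ∧ N ≠ commutator G) U

theorem exists_top {N : Subgroup G} (hn : N.Normal) (hle : N ≤ commutator G)
    (hne : N ≠ commutator G) : ∃ U, IsTop G U ∧ N ≤ U := by
  obtain ⟨U, h1, h2⟩ := Finite.exists_le_maximal
    (p := fun N : Subgroup G => N.Normal ∧ N ≤ commutator G ∧ N ≠ commutator G) (a := N)
    ⟨hn, hle, hne⟩
  exact ⟨U, h2, h1⟩

variable (hperf : ⁅commutator G, commutator G⁆ = commutator G)

include hperf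

/-- Distinct maximal ones are in general position. -/
theorem inf_sup_top (F : Finset (Subgroup G)) (hF : ∀ V ∈ F, IsTop G V) :
    (F.inf id ⊓ commutator G).Normal ∧ ∀ U, IsTop G U → U ∉ F →
      (F.inf id ⊓ commutator G) ⊔ U = commutator G := by
  classical
  induction F using Finset.induction_on with
  | empty =>
    rw [Finset.inf_empty, top_inf_eq]
    exact ⟨inferInstance, fun U hU _ => sup_eq_left.mpr hU.1.2.1⟩
  | insert V F hVF ih =>
    obtain ⟨hn, ih⟩ := ih fun W hW => hF W (Finset.mem_insert_of_mem hW)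
    have hV := hF V (Finset.mem_insert_self V F)
    have := hV.1.1
    have := hn
    set A := F.inf id ⊓ commutator G
    have heq : (insert V F).inf id ⊓ commutator G = V ⊓ A := by
      rw [Finset.inf_insert, id, inf_assoc]
    rw [heq]
    refine ⟨inferInstance, fun U hU hUF => ?_⟩
    rw [Finset.mem_insert, not_or] at hUF
    have := hU.1.1
    have h1 : A ⊔ U = commutator G := ih U hU hUF.2
    have h2 : V ⊔ U = commutator G := by
      by_contra hne
      have hle : V ⊔ U ≤ commutator G := sup_le hV.1.2.1 hU.1.2.1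
      have ha := hV.2 ⟨inferInstance, hle, hne⟩ le_sup_left
      have hb := hU.2 ⟨inferInstance, hle, hne⟩ le_sup_right
      exact hUF.1 (le_antisymm (le_trans le_sup_right ha) (le_trans le_sup_left hb))
    set X := V ⊓ A ⊔ U with hX
    refine le_antisymm (sup_le (inf_le_left.trans hV.1.2.1) hU.1.2.1) ?_
    let p := QuotientGroup.mk' X
    have hker : ∀ S : Subgroup G, S ⊔ U = commutator G → S.map p = (commutator G).map p := by
      intro S hS
      rw [← hS, Subgroup.map_sup]
      refine (sup_eq_left.mpr ?_).symm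
      rintro _ ⟨x, hx, rfl⟩
      have : p x = 1 := (QuotientGroup.eq_one_iff x).mpr (Subgroup.mem_sup_right hx)
      rw [this]
      exact one_mem _
    have h3 : (commutator G).map p = ⊥ := by
      conv_lhs => rw [← hperf, Subgroup.map_commutator]
      nth_rewrite 1 [← hker V h2]
      rw [← hker A h1, ← Subgroup.map_commutator, Subgroup.map_eq_bot_iff,
        QuotientGroup.ker_mk']
      exact (Subgroup.commutator_le_inf V A).trans le_sup_left
    rw [Subgroup.map_eq_bot_iff, QuotientGroup.ker_mk'] at h3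
    exact h3

/-- The derived subgroup has a character of degree at least `2 ^ r`. -/
theorem exists_deg_two_pow [Fintype (commutator G)] (F : Finset (Subgroup G))
    (hF : ∀ V ∈ F, IsTop G V) :
    ∃ τ : Cfsg.IrrCharacter (commutator G), 2 ^ F.card ≤ Cfsg.charDegree (τ : commutator G → ℂ) ∧
      ∀ x : commutator G, (∀ V ∈ F, (x : G) ∈ V) →
        (τ : commutator G → ℂ) x = (τ : commutator G → ℂ) 1 := by
  classical
  induction F using Finset.induction_on with
  | empty => exact ⟨oneChar _, by simp [deg_oneChar], fun x _ => by simp⟩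
  | insert V F hVF ih =>
    have hF' : ∀ W ∈ F, IsTop G W := fun W hW => hF W (Finset.mem_insert_of_mem hW)
    obtain ⟨τ, hτ, hker⟩ := ih hF'
    have hV := hF V (Finset.mem_insert_self V F)
    have := hV.1.1
    obtain ⟨hn, hsup⟩ := inf_sup_top hperf F hF'
    have := hn
    set A := F.inf id ⊓ commutator G with hA
    have htop : A.subgroupOf (commutator G) ⊔ V.subgroupOf (commutator G) = ⊤ := by
      rw [← Subgroup.subgroupOf_sup inf_le_right hV.1.2.1, hsup V hV hVF, Subgroup.subgroupOf_self]
    have hkerA : ∀ x ∈ A.subgroupOf (commutator G), (τ : (commutator G) → ℂ) x = (τ : (commutator G) → ℂ) 1 := fun x hx =>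
      hker x fun W hW => (Finset.inf_le hW : F.inf id ≤ W) hx.1
    obtain ⟨α, hα, hαe⟩ := IsIrrCharacter.exists_deflate τ.2 (A.subgroupOf (commutator G)) hkerA
    obtain ⟨β, hβ⟩ : ∃ β : Cfsg.IrrCharacter ((commutator G) ⧸ V.subgroupOf (commutator G)),
        Cfsg.charDegree (β : (commutator G) ⧸ V.subgroupOf (commutator G) → ℂ) ≠ 1 := by
      by_contra hcon
      push Not at hcon
      have hab := comm_iff_forall_linear.mpr fun β => (deg_eq_one_iff β).mp (hcon β)
      refine hV.1.2.2 (le_antisymm hV.1.2.1 ?_)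
      show (commutator G) ≤ V
      conv_lhs => rw [← hperf]
      rw [Subgroup.commutator_le]
      intro a ha c hc
      have h1 := hab (QuotientGroup.mk (⟨a, ha⟩ : (commutator G))) (QuotientGroup.mk (⟨c, hc⟩ : (commutator G)))
      have h2 : (⟨a, ha⟩ * ⟨c, hc⟩ * (⟨a, ha⟩)⁻¹ * (⟨c, hc⟩)⁻¹ : (commutator G)) ∈ V.subgroupOf (commutator G) := by
        rw [← QuotientGroup.eq_one_iff]
        simp only [QuotientGroup.mk_mul, QuotientGroup.mk_inv, h1]
        group
      exact h2
    refine ⟨⟨_, isIrr_mul_of_sup_eq_top _ _ htop ⟨α, hα⟩ β⟩, ?_, fun x hx => ?_⟩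
    · rw [Finset.card_insert_of_notMem hVF, pow_succ]
      have h2 : 2 ≤ Cfsg.charDegree (β : (commutator G) ⧸ V.subgroupOf (commutator G) → ℂ) := by
        have := deg_pos β; omega
      refine (Nat.mul_le_mul hτ h2).trans_eq (Nat.cast_injective (R := ℂ) ?_)
      rw [Nat.cast_mul, deg_cast, deg_cast, deg_cast, hαe]
      simp
    · have h1 : (x : (commutator G)) ∈ A.subgroupOf (commutator G) :=
        ⟨(Subgroup.zpowers_le.mp ((Finset.le_inf fun W hW => Subgroup.zpowers_le.mpr
          (hx W (Finset.mem_insert_of_mem hW))) : Subgroup.zpowers (x : G) ≤ F.inf id)), x.2⟩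
      have h2 : x ∈ V.subgroupOf (commutator G) := hx V (Finset.mem_insert_self V F)
      simp [(QuotientGroup.eq_one_iff x).mpr h1, (QuotientGroup.eq_one_iff x).mpr h2]

end CfsgLib.Char.MaxDegree
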