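import Cfsg.Agent.Lib.Char.MaxDegree.Metabelian
import Cfsg.Agent.Lib.Char.MaxDegree.Perfect

/-!
# An abelian subgroup of index at most `(b!)²`
-/

set_option autoImplicit false
set_option linter.unusedSectionVars false

open scoped ComplexConjugate

namespace CfsgLib.Char.MaxDegree

open CfsgLib.Char CfsgLib.DegreeTools

universe u

variable {G : Type u} [Group G] [Fintype G]

/-- Few elements have large centralizers only if there are few characters. -/
theorem card_le_small_classes {b : ℕ} (hb : DegLE G b) [DecidablePred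
    fun g : G => (Subgroup.centralizer ({g} : Set G)).index ≤ b ^ 2] :
    Nat.card G ≤ b ^ 2 * (b ^ 2 + 1) *
      (Finset.univ.filter fun g : G => (Subgroup.centralizer ({g} : Set G)).index ≤ b ^ 2).card := by
  classical
  set D := Finset.univ.filter fun g : G =>
    (Subgroup.centralizer ({g} : Set G)).index ≤ b ^ 2
  have hk : Nat.card G ≤ Nat.card (ConjClasses G) * b ^ 2 := by
    rw [← card_irrCharacter, ← sum_deg_sq, Nat.card_eq_fintype_card, ← Finset.card_univ,
      ← smul_eq_mul, ← Finset.sum_const]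
    exact Finset.sum_le_sum fun χ _ => Nat.pow_le_pow_left (hb χ) 2
  have hsum : ∑ g : G, Nat.card (Subgroup.centralizer ({g} : Set G)) =
      Nat.card G * Nat.card (ConjClasses G) := by
    have h := sum_centralizer_card (G := G) fun _ => True
    simp only [if_true, ← Nat.cast_sum] at h
    rw [Nat.card_congr (Equiv.subtypeUnivEquiv fun _ => trivial)] at h
    exact_mod_cast h
  have hbound : ∀ g : G, (b ^ 2 + 1) * Nat.card (Subgroup.centralizer ({g} : Set G)) ≤
      (b ^ 2 + 1) * (if g ∈ D then Nat.card G else 0) + Nat.card G := by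
    intro g
    have hmul := (Subgroup.centralizer ({g} : Set G)).card_mul_index
    split_ifs with hg
    · refine le_trans (Nat.mul_le_mul le_rfl ?_) (Nat.le_add_right _ _)
      exact Subgroup.card_le_card_group (Subgroup.centralizer ({g} : Set G))
    · have hg' : b ^ 2 + 1 ≤ (Subgroup.centralizer ({g} : Set G)).index := by
        simpa [D] using hg
      rw [mul_zero, zero_add, ← hmul, mul_comm]
      exact Nat.mul_le_mul le_rfl hg'
  have h1 : (b ^ 2 + 1) * (Nat.card G * Nat.card (ConjClasses G)) ≤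
      (b ^ 2 + 1) * (D.card * Nat.card G) + Nat.card G * Nat.card G := by
    rw [← hsum, Finset.mul_sum]
    refine (Finset.sum_le_sum fun g _ => hbound g).trans_eq ?_
    rw [Finset.sum_add_distrib, ← Finset.mul_sum, ← Finset.sum_filter, Finset.sum_const,
      Finset.sum_const, smul_eq_mul, smul_eq_mul, Finset.card_univ, ← Nat.card_eq_fintype_card]
    simp
  have h2 : (b ^ 2 + 1) * Nat.card (ConjClasses G) ≤ (b ^ 2 + 1) * D.card + Nat.card G := by
    refine Nat.le_of_mul_le_mul_left ?_ (Nat.card_pos (α := G))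
    linarith
  nlinarith

theorem factorial_bound {b r : ℕ} (hb : 5 ≤ b) (hr : r ≤ b) :
    r * (b ^ 2 * (b ^ 2 + 1)) * (Nat.factorial (b / 2)) ^ 2 ≤ (Nat.factorial b) ^ 2 := by
  obtain ⟨c, rfl⟩ := Nat.exists_eq_add_of_le hb
  have h1 : Nat.factorial ((5 + c) / 2) ≤ Nat.factorial (c + 2) :=
    Nat.factorial_le (by omega)
  have h2 : Nat.factorial (5 + c) = (c + 5) * ((c + 4) * ((c + 3) * Nat.factorial (c + 2))) := by
    rw [show 5 + c = c + 2 + 1 + 1 + 1 by ring, Nat.factorial_succ, Nat.factorial_succ,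
      Nat.factorial_succ]
  have h3 : (5 + c) * ((5 + c) ^ 2 + 1) ≤ ((c + 4) * (c + 3)) ^ 2 := by
    nlinarith [Nat.zero_le c, Nat.zero_le (c * c), Nat.zero_le (c * c * c),
      Nat.zero_le (c * c * c * c)]
  calc r * ((5 + c) ^ 2 * ((5 + c) ^ 2 + 1)) * (Nat.factorial ((5 + c) / 2)) ^ 2
      ≤ (5 + c) * ((5 + c) ^ 2 * ((5 + c) ^ 2 + 1)) * (Nat.factorial (c + 2)) ^ 2 := by gcongr
    _ = (c + 5) ^ 2 * ((5 + c) * ((5 + c) ^ 2 + 1)) * (Nat.factorial (c + 2)) ^ 2 := by ring
    _ ≤ (c + 5) ^ 2 * ((c + 4) * (c + 3)) ^ 2 * (Nat.factorial (c + 2)) ^ 2 := by gcongr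
    _ = (Nat.factorial (5 + c)) ^ 2 := by rw [h2]; ring

/-- An irreducible restriction to a centralizer makes the element act as a scalar. -/
theorem commutator_mem_ker (g : G) (χ : Cfsg.IrrCharacter G)
    [Fintype (Subgroup.centralizer ({g} : Set G))]
    (h : Cfsg.IsIrrCharacter (Subgroup.centralizer ({g} : Set G))
      (fun x : Subgroup.centralizer ({g} : Set G) => (χ : G → ℂ) x)) (t : G) :
    (χ : G → ℂ) (g * t * g⁻¹ * t⁻¹) = (χ : G → ℂ) 1 := by
  set C := Subgroup.centralizer ({g} : Set G)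
  obtain ⟨n, ρ, -, hρ⟩ := χ.2
  let σ : Representation ℂ C (Fin n → ℂ) := ρ.comp C.subtype
  have hσc : σ.character = fun x : C => (χ : G → ℂ) x := by
    rw [← hρ]; rfl
  obtain ⟨m, τ, hτ, hτe⟩ := h
  obtain ⟨e⟩ := nonempty_equiv_of_char_eq τ σ (hτe.trans hσc.symm)
  have := hτ
  have : σ.IsIrreducible := isIrreducible_of_equiv e
  obtain ⟨c, hc⟩ := exists_eq_smul_of_commute σ (ρ g) fun x => by
    show ρ g ∘ₗ ρ (x : G) = ρ (x : G) ∘ₗ ρ g
    rw [← Module.End.mul_eq_comp, ← Module.End.mul_eq_comp, ← map_mul, ← map_mul,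
      Subgroup.mem_centralizer_singleton_iff.mp x.2]
  rw [← hρ, Representation.char_one, char_eq_finrank_iff]
  have hcomm : ρ g * ρ t = ρ t * ρ g := by rw [hc]; ext v; simp
  show ρ (g * t * g⁻¹ * t⁻¹) = 1
  rw [map_mul, map_mul, map_mul, hcomm, mul_assoc (ρ t) (ρ g) (ρ g⁻¹), ← map_mul ρ g g⁻¹,
    mul_inv_cancel, map_one, mul_one, ← map_mul, mul_inv_cancel, map_one]

/-- The step through a perfect derived subgroup. -/
theorem step_perfect {b : ℕ} (hb : DegLE G b) (hperf : ⁅commutator G, commutator G⁆ = commutator G)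
    (hne : commutator G ≠ ⊥) :
    ∃ (H : Subgroup G) (c : ℕ), c < b ∧ DegLE H c ∧
      H.index * (Nat.factorial c) ^ 2 ≤ (Nat.factorial b) ^ 2 := by
  classical
  have : Nontrivial (commutator G) := (commutator G).nontrivial_iff_ne_bot.mpr hne
  have hperf' : commutator (commutator G) = ⊤ := by
    apply Subgroup.map_injective (commutator G).subtype_injective
    rw [Subgroup.map_subtype_commutator, hperf, ← MonoidHom.range_eq_map, Subgroup.range_subtype]
  obtain ⟨θ, hθ⟩ := exists_deg_ge_five_of_perfect hperf'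
  have hb5 : 5 ≤ b := hθ.trans ((hb.subgroup _) θ)
  by_cases hgood : ∃ g : G, (Subgroup.centralizer ({g} : Set G)).index ≤ b ^ 2 ∧
      ∀ χ : Cfsg.IrrCharacter G, Cfsg.charDegree (χ : G → ℂ) = b →
        ¬ Cfsg.IsIrrCharacter (Subgroup.centralizer ({g} : Set G))
          (fun x : Subgroup.centralizer ({g} : Set G) => (χ : G → ℂ) x)
  · obtain ⟨g, hg, hgχ⟩ := hgood
    refine ⟨_, b - 1, by omega, hb.drop _ hgχ, ?_⟩
    rw [← Nat.mul_factorial_pred (show b ≠ 0 by omega), mul_pow]
    exact Nat.mul_le_mul hg le_rfl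
  push Not at hgood
  set 𝒰 : Finset (Subgroup G) := Finset.univ.filter fun U => IsTop G U with h𝒰
  have h𝒰top : ∀ U ∈ 𝒰, IsTop G U := fun U hU => (Finset.mem_filter.mp hU).2
  obtain ⟨τ, hτ, -⟩ := exists_deg_two_pow hperf 𝒰 h𝒰top
  have hr : 𝒰.card ≤ b :=
    (Nat.lt_two_pow_self.le).trans (hτ.trans ((hb.subgroup _) τ))
  let Cen : Subgroup G → Finset G := fun U =>
    Finset.univ.filter fun g => ∀ h : G, g * h * g⁻¹ * h⁻¹ ∈ U
  have hcover : (Finset.univ.filter fun g : G =>
      (Subgroup.centralizer ({g} : Set G)).index ≤ b ^ 2) ⊆ 𝒰.biUnion Cen := by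
    intro g hg
    rw [Finset.mem_filter] at hg
    obtain ⟨χ, hχ, hirr⟩ := hgood g hg.2
    have hK : (charKer (isCharacter_irr χ)).Normal := charKer_normal _
    have := hK
    have hne' : charKer (isCharacter_irr χ) ⊓ commutator G ≠ commutator G := fun h => by
      have := deg_one_of_commutator_le χ fun x hx =>
        (mem_charKer (isCharacter_irr χ)).mp ((inf_eq_right.mp h) hx)
      omega
    obtain ⟨U, hU, hle⟩ := exists_top inferInstance inf_le_right hne'
    refine Finset.mem_biUnion.mpr ⟨U, Finset.mem_filter.mpr ⟨Finset.mem_univ _, hU⟩,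
      Finset.mem_filter.mpr ⟨Finset.mem_univ _, fun h => hle ⟨?_, ?_⟩⟩⟩
    · exact (mem_charKer (isCharacter_irr χ)).mpr (commutator_mem_ker g χ hirr h)
    · exact Subgroup.commutator_mem_commutator (Subgroup.mem_top g) (Subgroup.mem_top h)
  have hne0 : 𝒰.Nonempty := by
    obtain ⟨U, hU, -⟩ := exists_top (G := G) (N := ⊥) inferInstance bot_le (Ne.symm hne)
    exact ⟨U, Finset.mem_filter.mpr ⟨Finset.mem_univ _, hU⟩⟩
  obtain ⟨U, hU, hmax⟩ := Finset.exists_max_image 𝒰 (fun U => (Cen U).card) hne0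
  have hsize : Nat.card G ≤ b ^ 2 * (b ^ 2 + 1) * (𝒰.card * (Cen U).card) := by
    refine (card_le_small_classes hb).trans (Nat.mul_le_mul le_rfl ?_)
    refine (Finset.card_le_card hcover).trans (Finset.card_biUnion_le.trans ?_)
    rw [← smul_eq_mul, ← Finset.sum_const]
    exact Finset.sum_le_sum hmax
  have := (h𝒰top U hU).1.1
  set C := (Subgroup.center (G ⧸ U)).comap (QuotientGroup.mk' U) with hC
  have hCcard : Nat.card C = (Cen U).card := by
    rw [Nat.card_eq_fintype_card]
    exact Fintype.card_of_subtype _ fun x => by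
      rw [Finset.mem_filter]
      exact (and_iff_right (Finset.mem_univ x)).trans mem_comap_center.symm
  have hidx : C.index ≤ 𝒰.card * (b ^ 2 * (b ^ 2 + 1)) := by
    rw [← C.card_mul_index, ← hCcard] at hsize
    refine Nat.le_of_mul_le_mul_left ?_ (Nat.card_pos (α := C))
    linarith
  have hnab : ¬ commutator G ≤ C := fun hle => by
    refine (h𝒰top U hU).1.2.2 (le_antisymm (h𝒰top U hU).1.2.1 ?_)
    conv_lhs => rw [← hperf]
    rw [Subgroup.commutator_le]
    exact fun a ha c _ => mem_comap_center.mp (hle ha) c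
  have : C.Normal := Subgroup.Normal.comap inferInstance _
  refine ⟨C, b / 2, by omega, fun η => ?_, ?_⟩
  · obtain ⟨χ, hover, hle, heq⟩ := exists_over C η
    obtain ⟨e, s, he, hs, -, hdeg⟩ := clifford_numbers C χ η hover
    have hbχ := hb χ
    rw [Nat.le_div_iff_mul_le two_pos]
    by_cases hes : e * s = 1
    · rw [hes, one_mul] at hdeg
      obtain ⟨ψ, hψ⟩ : ∃ ψ : Cfsg.IrrCharacter (G ⧸ C),
          Cfsg.charDegree (ψ : G ⧸ C → ℂ) ≠ 1 := by
        by_contra hcon
        push Not at hcon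
        have hab := comm_iff_forall_linear.mpr fun ψ => (deg_eq_one_iff ψ).mp (hcon ψ)
        refine hnab ?_
        show ⁅(⊤ : Subgroup G), ⊤⁆ ≤ C
        rw [Subgroup.commutator_le]
        intro a _ c _
        rw [← QuotientGroup.eq_one_iff]
        show QuotientGroup.mk (a * c * a⁻¹ * c⁻¹) = (1 : G ⧸ C)
        simp only [QuotientGroup.mk_mul, QuotientGroup.mk_inv, hab (QuotientGroup.mk a)]
        group
      have hprod := CharDeep.Glauberman.isIrr_ext_mul (QuotientGroup.mk'_surjective C)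
        (QuotientGroup.ker_mk' C) χ.2 η.2 (fun x => congrFun (heq hdeg.symm) x) ψ
      have h2 : Cfsg.charDegree ((χ : G → ℂ) * ((ψ : G ⧸ C → ℂ) ∘ QuotientGroup.mk' C)) =
          Cfsg.charDegree (χ : G → ℂ) * Cfsg.charDegree (ψ : G ⧸ C → ℂ) := by
        apply Nat.cast_injective (R := ℂ)
        rw [charDegree_cast (IsIrrCharacter.isCharacter hprod), Nat.cast_mul, deg_cast, deg_cast]
        simp
      have h3 := hb ⟨_, hprod⟩
      have h4 : 2 ≤ Cfsg.charDegree (ψ : G ⧸ C → ℂ) := by have := deg_pos ψ; omega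
      rw [h2, hdeg] at h3
      exact le_trans (Nat.mul_le_mul le_rfl h4) h3
    · have h5 : 2 ≤ e * s := by
        have : 0 < e * s := Nat.mul_pos he hs
        omega
      rw [mul_comm]
      exact le_trans (Nat.mul_le_mul h5 le_rfl) (hdeg ▸ hbχ)
  · exact le_trans (Nat.mul_le_mul hidx le_rfl) (factorial_bound hb5 hr)

/-- The step when the derived subgroup is not perfect. -/
theorem step_imperfect {b : ℕ} (hb : DegLE G b)
    (hperf : ⁅commutator G, commutator G⁆ ≠ commutator G) :
    ∃ H : Subgroup G, H.index ≤ b ^ 2 ∧ DegLE H (b - 1) := by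
  classical
  obtain ⟨K, hle, hK⟩ := Finite.exists_le_maximal
    (p := fun N : Subgroup G => N.Normal ∧ ⁅commutator G, commutator G⁆ ≤ N ∧
      ¬ commutator G ≤ N) (a := ⁅commutator G, commutator G⁆)
    ⟨inferInstance, le_rfl, fun h => hperf (le_antisymm
      (Subgroup.commutator_le_self _) h)⟩
  have := hK.1.1
  set π := QuotientGroup.mk' K
  have hπ : Function.Surjective π := QuotientGroup.mk'_surjective K
  have hcomm : commutator (G ⧸ K) = (commutator G).map π := by
    rw [commutator_def, ← Subgroup.map_top_of_surjective _ hπ, ← Subgroup.map_commutator,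
      ← commutator_def]
  have hQ : Quot (G ⧸ K) := by
    refine ⟨fun h => hK.1.2.2 ?_, fun x hx y hy => ?_, fun N hN hne => ?_⟩
    · rwa [hcomm, Subgroup.map_eq_bot_iff, QuotientGroup.ker_mk'] at h
    · rw [hcomm] at hx hy
      obtain ⟨a, ha, rfl⟩ := hx
      obtain ⟨c, hc, rfl⟩ := hy
      have := (QuotientGroup.eq_one_iff _).mpr (hK.1.2.1 (Subgroup.commutator_mem_commutator ha hc))
      simp only [commutatorElement_def, QuotientGroup.mk_mul, QuotientGroup.mk_inv] at this
      rw [mul_inv_eq_one, mul_inv_eq_iff_eq_mul] at this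
      exact this
    · rw [hcomm, Subgroup.map_le_iff_le_comap]
      by_contra hcon
      refine hne (Subgroup.comap_injective hπ ?_)
      have hKN : K ≤ N.comap π := fun x hx => by
        simp [π, (QuotientGroup.eq_one_iff x).mpr hx]
      have := hK.2 ⟨hN.comap π, hK.1.2.1.trans hKN, hcon⟩ hKN
      rw [le_antisymm this hKN, MonoidHom.comap_bot, QuotientGroup.ker_mk']
  exact step_metabelian hπ hQ hb

/-- An abelian subgroup of index at most `(b!)²`. -/
theorem exists_abelian_index_le : ∀ (b : ℕ) (G : Type u) [Group G] [Finite G], DegLE G b →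
    ∃ A : Subgroup G, (∀ x ∈ A, ∀ y ∈ A, x * y = y * x) ∧ A.index ≤ (Nat.factorial b) ^ 2 := by
  intro b
  induction b using Nat.strong_induction_on with
  | _ b ih =>
    intro G _ _ hb
    cases nonempty_fintype G
    by_cases hab : ∀ x y : G, x * y = y * x
    · refine ⟨⊤, fun x _ y _ => hab x y, ?_⟩
      rw [Subgroup.index_top]
      exact Nat.one_le_pow _ _ (Nat.factorial_pos b)
    obtain ⟨H, c, hc, hH, hidx⟩ : ∃ (H : Subgroup G) (c : ℕ), c < b ∧ DegLE H c ∧
        H.index * (Nat.factorial c) ^ 2 ≤ (Nat.factorial b) ^ 2 := by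
      have hb0 : 0 < b := (deg_pos (oneChar G)).trans_le (hb _)
      by_cases hperf : ⁅commutator G, commutator G⁆ = commutator G
      · exact step_perfect hb hperf fun h => hab fun x y =>
          ((commutator_eq_bot_iff G).mp h).is_comm.comm x y
      · obtain ⟨H, hi, hd⟩ := step_imperfect hb hperf
        refine ⟨H, b - 1, by omega, hd, ?_⟩
        rw [← Nat.mul_factorial_pred hb0.ne', mul_pow]
        exact Nat.mul_le_mul hi le_rfl
    obtain ⟨A, hA, hAi⟩ := ih c hc H hH
    refine ⟨A.map H.subtype, ?_, ?_⟩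
    · rintro _ ⟨x, hx, rfl⟩ _ ⟨y, hy, rfl⟩
      rw [← map_mul, ← map_mul, hA x hx y hy]
    · rw [Subgroup.index_map_subtype, mul_comm]
      exact le_trans (Nat.mul_le_mul le_rfl hAi) hidx

end CfsgLib.Char.MaxDegree
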