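import Cfsg.Agent.Lib.Char.MaxDegree.Basic
import Cfsg.Agent.Lib.Char.AbelianDegreeBound
import Cfsg.Agent.Lib.Char.Perm

/-!
# The step through a minimal non-abelian metabelian quotient

Let `Q` be a non-abelian quotient of `G` with abelian derived subgroup which is the unique minimal
normal subgroup of `Q`.  If all irreducible degrees of `G` are at most `b`, some subgroup of `G` of
index at most `b²` has all irreducible degrees at most `b - 1`.
-/

set_option autoImplicit false
set_option linter.unusedSectionVars false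

open scoped ComplexConjugate

namespace CfsgLib.Char.MaxDegree

open CfsgLib.Char CfsgLib.DegreeTools

universe u

variable {G : Type u} [Group G] [Fintype G] {Q : Type u} [Group Q] [Fintype Q]
  {π : G →* Q}

theorem sum_subgroup {H : Subgroup G} [Fintype H] (φ : G → ℂ) [DecidablePred (· ∈ H)] :
    sumSq (fun h : H => φ h) = ∑ g, if g ∈ H then ‖φ g‖ ^ 2 else 0 := by
  rw [← Finset.sum_filter, sumSq,
    Finset.sum_subtype (p := (· ∈ H)) (Finset.univ.filter (· ∈ H)) (by simp) fun g => ‖φ g‖ ^ 2]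

theorem index_comap (hπ : Function.Surjective π) (M : Subgroup Q) :
    (M.comap π).index = M.index :=
  M.index_comap_of_surjective hπ

/-- The averaged inequality: multiplying by a nonlinear character of the quotient gives a
character of large norm. -/
theorem avg_le (hπ : Function.Surjective π) {b : ℕ} (hb : DegLE G b) (χ : Cfsg.IrrCharacter G)
    (hχ : Cfsg.charDegree (χ : G → ℂ) = b) :
    ((∑ ψ : Cfsg.IrrCharacter Q, if Cfsg.charDegree (ψ : Q → ℂ) ≠ 1 then
        Cfsg.charDegree (ψ : Q → ℂ) else 0 : ℕ) : ℝ) * Nat.card G ≤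
      ∑ g, ‖(χ : G → ℂ) g‖ ^ 2 *
        ((Nat.card (Subgroup.centralizer ({π g} : Set Q)) : ℝ) - (commutator Q).index) := by
  have hbpos : (0 : ℝ) < b := by
    rw [← hχ]
    exact_mod_cast deg_pos χ
  simp only [← sum_nonlinear_col, Finset.mul_sum]
  rw [Finset.sum_comm, Nat.cast_sum, Finset.sum_mul]
  refine Finset.sum_le_sum fun ψ _ => ?_
  by_cases h : Cfsg.charDegree (ψ : Q → ℂ) ≠ 1
  swap
  · simp [h]
  simp only [if_pos h]
  have hψ := IsIrrCharacter.comp_surjective ψ.2 π hπ
  have hc : Cfsg.IsCharacter G ((χ : G → ℂ) * ((ψ : Q → ℂ) ∘ π)) :=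
    IsCharacter.mul (isCharacter_irr χ) (IsIrrCharacter.isCharacter hψ)
  have hd : Cfsg.charDegree ((χ : G → ℂ) * ((ψ : Q → ℂ) ∘ π)) =
      b * Cfsg.charDegree (ψ : Q → ℂ) := by
    apply Nat.cast_injective (R := ℂ)
    rw [charDegree_cast hc, Nat.cast_mul, deg_cast, ← hχ, deg_cast]
    simp
  have h1 := sumSq_ge hc hb
  rw [hd, Nat.cast_mul, mul_assoc, mul_le_mul_iff_of_pos_left hbpos] at h1
  refine h1.trans_eq ?_
  simp [sumSq, mul_pow]

/-- The hypotheses on the quotient. -/
structure Quot (Q : Type u) [Group Q] : Prop where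
  nonab : commutator Q ≠ ⊥
  ab : ∀ x ∈ commutator Q, ∀ y ∈ commutator Q, x * y = y * x
  min : ∀ N : Subgroup Q, N.Normal → N ≠ ⊥ → commutator Q ≤ N

theorem exists_nonlinear (hQ : Quot Q) :
    ∃ ψ : Cfsg.IrrCharacter Q, Cfsg.charDegree (ψ : Q → ℂ) ≠ 1 := by
  by_contra h
  push Not at h
  refine hQ.nonab (commutator_eq_bot_iff Q |>.mpr ⟨⟨?_⟩⟩)
  exact comm_iff_forall_linear.mpr fun ψ => (deg_eq_one_iff ψ).mp (h ψ)

theorem comm_mem (x y : Q) : x * y * x⁻¹ * y⁻¹ ∈ commutator Q :=
  Subgroup.commutator_mem_commutator (Subgroup.mem_top x) (Subgroup.mem_top y)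

/-- Outside the centre, the centralizers are as small as possible when the derived subgroup is
central and minimal. -/
theorem card_centralizer_of_notMem_center (hQ : Quot Q)
    (hc : commutator Q ≤ Subgroup.center Q) {x : Q} (hx : x ∉ Subgroup.center Q) :
    Nat.card (Subgroup.centralizer ({x} : Set Q)) = (commutator Q).index := by
  let f : Q →* Q :=
    { toFun := fun y => x * y * x⁻¹ * y⁻¹
      map_one' := by group
      map_mul' := fun a b => by
        have h := Subgroup.mem_center_iff.mp (hc (comm_mem x b)) a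
        calc x * (a * b) * x⁻¹ * (a * b)⁻¹
            = (x * a * x⁻¹ * a⁻¹) * (a * (x * b * x⁻¹ * b⁻¹)) * a⁻¹ := by group
          _ = _ := by rw [h]; group }
  have hker : f.ker = Subgroup.centralizer ({x} : Set Q) := by
    ext y
    rw [MonoidHom.mem_ker, Subgroup.mem_centralizer_singleton_iff]
    show x * y * x⁻¹ * y⁻¹ = 1 ↔ y * x = x * y
    rw [mul_inv_eq_one, mul_inv_eq_iff_eq_mul]
    exact eq_comm
  have hle : f.range ≤ commutator Q := by
    rintro _ ⟨y, rfl⟩
    exact comm_mem x y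
  have hn : f.range.Normal := ⟨fun z hz g => by
    have := Subgroup.mem_center_iff.mp (hc (hle hz)) g
    rwa [this, mul_inv_cancel_right]⟩
  have hne : f.range ≠ ⊥ := fun h => hx (Subgroup.mem_center_iff.mpr fun y => by
    have h1 : y ∈ f.ker := by rw [MonoidHom.range_eq_bot_iff.mp h]; rfl
    rw [hker, Subgroup.mem_centralizer_singleton_iff] at h1
    exact h1)
  have h1 := Subgroup.index_ker f
  rw [le_antisymm hle (hQ.min _ hn hne), hker] at h1
  have h2 := (Subgroup.centralizer ({x} : Set Q)).card_mul_index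
  rw [h1] at h2
  have h3 := (commutator Q).card_mul_index
  exact Nat.eq_of_mul_eq_mul_right Nat.card_pos (h2.trans (h3.symm.trans (mul_comm _ _)))

/-- The central case. -/
theorem step_central (hπ : Function.Surjective π) (hQ : Quot Q)
    (hc : commutator Q ≤ Subgroup.center Q) {b : ℕ} (hb : DegLE G b) :
    ∃ H : Subgroup G, H.index ≤ b ^ 2 ∧ DegLE H (b - 1) := by
  classical
  set Z := Subgroup.center Q
  obtain ⟨ψ, hψ⟩ := exists_nonlinear hQ
  set d := Cfsg.charDegree (ψ : Q → ℂ) with hd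
  have hd2 : 2 ≤ d := by have := deg_pos ψ; omega
  have hvan : ∀ x ∉ Z, (ψ : Q → ℂ) x = 0 := by
    intro x hx
    have h := sum_nonlinear_col (G := Q) x
    rw [card_centralizer_of_notMem_center hQ hc hx, sub_self] at h
    have h1 := (Finset.sum_eq_zero_iff_of_nonneg fun χ _ => by split_ifs <;> positivity).mp h ψ
      (Finset.mem_univ _)
    rw [if_pos hψ] at h1
    simpa using h1
  have hon : ∀ x ∈ Z, ‖(ψ : Q → ℂ) x‖ = d := by
    intro x hx
    obtain ⟨ω, hω, he⟩ := DegreeBound.apply_central_mul ψ.2 hx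
    have := he 1
    rw [mul_one] at this
    rw [this, norm_mul, hω, one_mul, norm_apply_one]
  have hsq : ∀ x, ‖(ψ : Q → ℂ) x‖ ^ 2 = if x ∈ Z then (d : ℝ) ^ 2 else 0 := fun x => by
    split_ifs with h
    · rw [hon x h]
    · simp [hvan x h]
  have hidx : Z.index = d ^ 2 := by
    have h := DegreeTools.sum_norm_sq ψ
    simp only [hsq] at h
    rw [← Finset.sum_filter, Finset.sum_const, nsmul_eq_mul] at h
    rw [← Fintype.card_subtype, ← Nat.card_eq_fintype_card, ← Z.card_mul_index] at h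
    have h' : Nat.card Z * d ^ 2 = Nat.card Z * Z.index := by exact_mod_cast h
    exact (Nat.eq_of_mul_eq_mul_left Nat.card_pos h').symm
  refine ⟨Z.comap π, ?_, hb.drop _ fun χ hχ hirr => ?_⟩
  · rw [index_comap hπ, hidx]
    have hQb : DegLE Q b := fun φ => by
      have h1 := hb ⟨_, IsIrrCharacter.comp_surjective φ.2 π hπ⟩
      simpa [Cfsg.charDegree] using h1
    exact Nat.pow_le_pow_left (hQb ψ) 2
  · have hbpos : (0 : ℝ) < b := by rw [← hχ]; exact_mod_cast deg_pos χ
    have hψ' := IsIrrCharacter.comp_surjective ψ.2 π hπ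
    have hc' : Cfsg.IsCharacter G ((χ : G → ℂ) * ((ψ : Q → ℂ) ∘ π)) :=
      IsCharacter.mul (isCharacter_irr χ) (IsIrrCharacter.isCharacter hψ')
    have hdeg : Cfsg.charDegree ((χ : G → ℂ) * ((ψ : Q → ℂ) ∘ π)) = b * d := by
      apply Nat.cast_injective (R := ℂ)
      rw [charDegree_cast hc', Nat.cast_mul, hd, deg_cast, ← hχ, deg_cast]
      simp
    have h1 := sumSq_ge hc' hb
    rw [hdeg, Nat.cast_mul, mul_assoc, mul_le_mul_iff_of_pos_left hbpos] at h1
    have h2 : sumSq ((χ : G → ℂ) * ((ψ : Q → ℂ) ∘ π)) =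
        (d : ℝ) ^ 2 * sumSq (fun h : Z.comap π => (χ : G → ℂ) h) := by
      rw [sum_subgroup, Finset.mul_sum, sumSq]
      refine Finset.sum_congr rfl fun g _ => ?_
      simp only [Pi.mul_apply, Function.comp_apply, norm_mul, mul_pow, hsq, Subgroup.mem_comap]
      split_ifs <;> ring
    rw [h2, sumSq_irr hirr, ← (Z.comap π).card_mul_index, index_comap hπ, hidx] at h1
    push_cast at h1
    have hp : (0 : ℝ) < Nat.card (Z.comap π) := Nat.cast_pos.mpr Nat.card_pos
    have hd' : (2 : ℝ) ≤ d := by exact_mod_cast hd2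
    nlinarith [mul_pos hp (mul_pos (by linarith : (0 : ℝ) < d) (by linarith : (0 : ℝ) < d))]

section NonCentral

variable (hQ : Quot Q) (hnc : ¬ commutator Q ≤ Subgroup.center Q)

include hQ

theorem fixed_eq_one {g : Q} (hg : ∃ m ∈ commutator Q, m * g ≠ g * m) {m : Q}
    (hm : m ∈ commutator Q) (h : m * g = g * m) : m = 1 := by
  by_contra hne
  let K : Subgroup Q := commutator Q ⊓ Subgroup.centralizer ({g} : Set Q)
  have hmK : m ∈ K := ⟨hm, Subgroup.mem_centralizer_singleton_iff.mpr h⟩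
  have hn : K.Normal := ⟨fun z hz y => by
    refine ⟨(inferInstance : (commutator Q).Normal).conj_mem z hz.1 y,
      Subgroup.mem_centralizer_singleton_iff.mpr ?_⟩
    have hz' := Subgroup.mem_centralizer_singleton_iff.mp hz.2
    have hw := hQ.ab _ ((inferInstance : (commutator Q).Normal).conj_mem z hz.1 y) _
      (comm_mem y g)
    have h1 : y * z * y⁻¹ * (y * g * y⁻¹) = y * g * y⁻¹ * (y * z * y⁻¹) := by
      calc y * z * y⁻¹ * (y * g * y⁻¹) = y * (z * g) * y⁻¹ := by group
        _ = y * (g * z) * y⁻¹ := by rw [hz']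
        _ = _ := by group
    calc y * z * y⁻¹ * g
        = y * z * y⁻¹ * ((y * g * y⁻¹ * g⁻¹)⁻¹ * (y * g * y⁻¹)) := by group
      _ = (y * g * y⁻¹ * g⁻¹)⁻¹ * (y * z * y⁻¹ * (y * g * y⁻¹)) := by
          rw [← mul_assoc, ← mul_assoc ((y * g * y⁻¹ * g⁻¹)⁻¹)]
          congr 1
          exact ((Commute.inv_right (show Commute (y * z * y⁻¹) _ from hw)).eq)
      _ = _ := by rw [h1]; group⟩
  have hK : K ≠ ⊥ := fun hb => hne (by rw [hb] at hmK; exact hmK)
  obtain ⟨m', hm', hne'⟩ := hg
  exact hne' (Subgroup.mem_centralizer_singleton_iff.mp ((hQ.min K hn hK hm').2))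

include hnc

theorem exists_mover : ∃ g : Q, ∃ m ∈ commutator Q, m * g ≠ g * m := by
  by_contra h
  push Not at h
  exact hnc fun m hm => Subgroup.mem_center_iff.mpr fun g => (h g m hm).symm

theorem self_centralizing {x : Q} (h : ∀ m ∈ commutator Q, m * x = x * m) : x ∈ commutator Q := by
  obtain ⟨g, hg⟩ := exists_mover hQ hnc
  set M := commutator Q
  have hMn : M.Normal := inferInstance
  let φ : M → M := fun m => ⟨(m : Q) * g * (m : Q)⁻¹ * g⁻¹, comm_mem _ _⟩
  have hinj : Function.Injective φ := by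
    intro a c hac
    have h1 : (a : Q) * g * (a : Q)⁻¹ = (c : Q) * g * (c : Q)⁻¹ :=
      mul_right_cancel (congrArg Subtype.val hac)
    have h2 : ((c : Q)⁻¹ * a) * g = g * ((c : Q)⁻¹ * a) := by
      calc (c : Q)⁻¹ * a * g = (c : Q)⁻¹ * ((a : Q) * g * (a : Q)⁻¹) * a := by group
        _ = _ := by rw [h1]; group
    have h3 := fixed_eq_one hQ hg (M.mul_mem (M.inv_mem c.2) a.2) h2
    exact Subtype.ext (inv_mul_eq_one.mp h3).symm
  obtain ⟨m, hm⟩ := (Finite.injective_iff_surjective.mp hinj) ⟨x * g * x⁻¹ * g⁻¹, comm_mem x g⟩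
  have hm' : (m : Q) * g * (m : Q)⁻¹ = x * g * x⁻¹ := mul_right_cancel (congrArg Subtype.val hm)
  set y := (m : Q)⁻¹ * x with hy
  have hyg : y * g = g * y := by
    calc y * g = (m : Q)⁻¹ * (x * g * x⁻¹) * x := by rw [hy]; group
      _ = _ := by rw [← hm', hy]; group
  have hym : ∀ z ∈ M, z * y = y * z := fun z hz => by
    rw [hy, ← mul_assoc, hQ.ab z hz _ (M.inv_mem m.2), mul_assoc, h z hz, ← mul_assoc]
  have hyc : y ∈ Subgroup.center Q := Subgroup.mem_center_iff.mpr fun t => by
    have hc : t * y * t⁻¹ * y⁻¹ ∈ M := comm_mem t y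
    have hfix : t * y * t⁻¹ * y⁻¹ * g = g * (t * y * t⁻¹ * y⁻¹) := by
      have hs : g * t * g⁻¹ * t⁻¹ ∈ M := comm_mem g t
      have hsy := hym _ hs
      have hsc := hQ.ab _ hs _ hc
      have key : g * (t * y * t⁻¹ * y⁻¹) * g⁻¹ = t * y * t⁻¹ * y⁻¹ := by
        calc g * (t * y * t⁻¹ * y⁻¹) * g⁻¹
            = (g * t * g⁻¹) * (g * y * g⁻¹) * (g * t * g⁻¹)⁻¹ * (g * y * g⁻¹)⁻¹ := by group
          _ = (g * t * g⁻¹) * y * (g * t * g⁻¹)⁻¹ * y⁻¹ := by
              rw [← hyg, mul_inv_cancel_right]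
          _ = (g * t * g⁻¹ * t⁻¹) * (t * y * t⁻¹ * y⁻¹) *
                (y * (g * t * g⁻¹ * t⁻¹)⁻¹ * y⁻¹) := by group
          _ = (g * t * g⁻¹ * t⁻¹) * (t * y * t⁻¹ * y⁻¹) * (g * t * g⁻¹ * t⁻¹)⁻¹ := by
              congr 1
              rw [← hym _ (M.inv_mem hs), mul_inv_cancel_right]
          _ = _ := by rw [hsc, mul_inv_cancel_right]
      conv_lhs => rw [← key]
      group
    have h0 := fixed_eq_one hQ hg hc hfix
    rwa [mul_inv_eq_one, mul_inv_eq_iff_eq_mul] at h0
  have hZ : Subgroup.center Q = ⊥ := by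
    by_contra hne
    exact hnc (hQ.min _ inferInstance hne)
  rw [hZ, Subgroup.mem_bot, hy, inv_mul_eq_one] at hyc
  exact hyc ▸ m.2

theorem fixed_eq_one' {x : Q} (hx : x ∉ commutator Q) {m : Q} (hm : m ∈ commutator Q)
    (h : m * x = x * m) : m = 1 := by
  refine fixed_eq_one hQ ?_ hm h
  by_contra hc
  push Not at hc
  exact hx (self_centralizing hQ hnc hc)

theorem card_centralizer_of_notMem {x : Q} (hx : x ∉ commutator Q) :
    Nat.card (Subgroup.centralizer ({x} : Set Q)) = (commutator Q).index := by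
  refine le_antisymm ?_ ?_
  · rw [Subgroup.index]
    refine Nat.card_le_card_of_injective (fun c => QuotientGroup.mk (c : Q)) fun a c hac => ?_
    have h1 := QuotientGroup.eq.mp hac
    have h2 := fixed_eq_one' hQ hnc hx h1
      (Subgroup.mem_centralizer_singleton_iff.mp ((Subgroup.centralizer _).mul_mem
        ((Subgroup.centralizer _).inv_mem a.2) c.2))
    exact Subtype.ext (inv_mul_eq_one.mp h2)
  · have h1 := card_conjugates_mul x
    have h2 : Nat.card {y : Q // IsConj y x} ≤ Nat.card (commutator Q) := by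
      refine Nat.card_le_card_of_injective (fun y => ⟨(y : Q) * x⁻¹, ?_⟩) fun a c hac =>
        Subtype.ext (mul_right_cancel (congrArg Subtype.val hac))
      obtain ⟨t, ht⟩ := isConj_iff.mp y.2.symm
      rw [← ht]
      exact comm_mem t x
    have h3 : Nat.card (commutator Q) * (commutator Q).index ≤
        Nat.card (commutator Q) * Nat.card (Subgroup.centralizer ({x} : Set Q)) := by
      rw [(commutator Q).card_mul_index, ← h1]
      exact Nat.mul_le_mul h2 le_rfl
    exact Nat.le_of_mul_le_mul_left h3 Nat.card_pos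

theorem card_centralizer_of_mem {x : Q} (hx : x ∈ commutator Q) (h1 : x ≠ 1) :
    Nat.card (Subgroup.centralizer ({x} : Set Q)) = Nat.card (commutator Q) := by
  refine congrArg (fun K : Subgroup Q => Nat.card K) (le_antisymm (fun y hy => ?_) fun y hy =>
    Subgroup.mem_centralizer_singleton_iff.mpr (hQ.ab y hy x hx))
  by_contra hyM
  exact h1 (fixed_eq_one' hQ hnc hyM hx (Subgroup.mem_centralizer_singleton_iff.mp hy).symm)

/-- The index of the derived subgroup divides its order minus one. -/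
theorem index_dvd : (commutator Q).index ∣ Nat.card (commutator Q) - 1 := by
  classical
  set M := commutator Q
  have hnorm : M.Normal := inferInstance
  let P : ConjClasses Q → Prop := fun C => ∀ g, ConjClasses.mk g = C → g ∈ M ∧ g ≠ 1
  have hP : ∀ g, P (ConjClasses.mk g) ↔ g ∈ M ∧ g ≠ 1 := fun g =>
    ⟨fun h => h g rfl, fun h g' hg' => by
      obtain ⟨t, ht⟩ := isConj_iff.mp (ConjClasses.mk_eq_mk_iff_isConj.mp hg').symm
      rw [← ht]
      exact ⟨hnorm.conj_mem g h.1 t, fun he => h.2 (conj_eq_one_iff.mp he)⟩⟩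
  have h := sum_centralizer_card P
  simp only [hP] at h
  have hterm : ∀ g : Q, (if g ∈ M ∧ g ≠ 1 then
      (Nat.card (Subgroup.centralizer ({g} : Set Q)) : ℂ) else 0) =
      if g ∈ M ∧ g ≠ 1 then (Nat.card M : ℂ) else 0 := fun g => by
    split_ifs with hg
    · rw [card_centralizer_of_mem hQ hnc hg.1 hg.2]
    · rfl
  simp only [hterm, ← Finset.sum_filter, Finset.sum_const, nsmul_eq_mul] at h
  have hcard : (Finset.univ.filter fun g => g ∈ M ∧ g ≠ 1).card = Nat.card M - 1 := by
    rw [show (Finset.univ.filter fun g => g ∈ M ∧ g ≠ 1) =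
        (Finset.univ.filter (· ∈ M)).erase 1 by ext g; simp [and_comm],
      Finset.card_erase_of_mem (by simp), ← Fintype.card_subtype, ← Nat.card_eq_fintype_card]
  rw [hcard, ← M.card_mul_index] at h
  have h' : (Nat.card M - 1) * Nat.card M = Nat.card M * M.index * Nat.card {C // P C} := by
    exact_mod_cast h
  refine ⟨Nat.card {C // P C}, Nat.eq_of_mul_eq_mul_right (Nat.card_pos (α := M)) ?_⟩
  rw [h']
  ring

omit hQ hnc in
theorem nonlinear_sq_sum :
    ∑ ψ : Cfsg.IrrCharacter Q, (if Cfsg.charDegree (ψ : Q → ℂ) ≠ 1 then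
        (Cfsg.charDegree (ψ : Q → ℂ) : ℝ) ^ 2 else 0) =
      (Nat.card Q : ℝ) - (commutator Q).index := by
  have h := sum_nonlinear_col (G := Q) 1
  rw [show Nat.card (Subgroup.centralizer ({1} : Set Q)) = Nat.card Q by
    rw [Subgroup.centralizer_eq_top_iff_subset.mpr (by simp)]; simp] at h
  rw [← h]
  exact Finset.sum_congr rfl fun ψ _ => by rw [norm_apply_one]

theorem vanish {ψ : Cfsg.IrrCharacter Q} (hψ : Cfsg.charDegree (ψ : Q → ℂ) ≠ 1) {x : Q}
    (hx : x ∉ commutator Q) : (ψ : Q → ℂ) x = 0 := by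
  have h := sum_nonlinear_col (G := Q) x
  rw [card_centralizer_of_notMem hQ hnc hx, sub_self] at h
  have h1 := (Finset.sum_eq_zero_iff_of_nonneg fun χ _ => by split_ifs <;> positivity).mp h ψ
    (Finset.mem_univ _)
  rw [if_pos hψ] at h1
  simpa using h1

/-- The nonlinear degrees are at most the index, and their squares at least it. -/
theorem degree_bounds {ψ : Cfsg.IrrCharacter Q} (hψ : Cfsg.charDegree (ψ : Q → ℂ) ≠ 1) :
    Cfsg.charDegree (ψ : Q → ℂ) ≤ (commutator Q).index ∧
      (commutator Q).index ≤ Cfsg.charDegree (ψ : Q → ℂ) ^ 2 := by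
  classical
  set M := commutator Q
  obtain ⟨m, hm, -, hs, hd⟩ := decompose (IsCharacter.restrict (isCharacter_irr ψ) M)
  have hab : ∀ a c : M, a * c = c * a := fun a c => Subtype.ext (hQ.ab _ a.2 _ c.2)
  have h1 : sumSq (fun x : M => (ψ : Q → ℂ) x) = Nat.card Q := by
    rw [← DegreeTools.sum_norm_sq ψ, sum_subgroup]
    refine Finset.sum_congr rfl fun g _ => ?_
    split_ifs with hg
    · rfl
    · simp [vanish hQ hnc hψ hg]
  rw [h1, ← M.card_mul_index] at hs
  have hsum : M.index = ∑ θ, m θ ^ 2 :=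
    Nat.eq_of_mul_eq_mul_left Nat.card_pos (by exact_mod_cast hs)
  have hdeg : Cfsg.charDegree (ψ : Q → ℂ) = ∑ θ, m θ := by
    rw [show Cfsg.charDegree (ψ : Q → ℂ) = Cfsg.charDegree (fun x : M => (ψ : Q → ℂ) x) by
      simp [Cfsg.charDegree], hd]
    exact Finset.sum_congr rfl fun θ _ => by
      rw [(deg_eq_one_iff θ).mpr (apply_one_eq_one_of_comm hab θ.2), mul_one]
  rw [hsum, hdeg]
  exact ⟨Finset.sum_le_sum fun θ _ => Nat.le_self_pow two_ne_zero _,
    Finset.sum_sq_le_sq_sum_of_nonneg fun θ _ => Nat.zero_le _⟩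

variable (hπ : Function.Surjective π) {b : ℕ} (hb : DegLE G b)

include hπ hb

/-- The main inequality between the norms of the restrictions. -/
theorem key [Fintype π.ker] [Fintype ((commutator Q).comap π)]
    (χ : Cfsg.IrrCharacter G) (hχ : Cfsg.charDegree (χ : G → ℂ) = b) {A B : ℕ}
    (hA : sumSq (fun x : π.ker => (χ : G → ℂ) x) = Nat.card π.ker * (A : ℝ))
    (hB : sumSq (fun x : (commutator Q).comap π => (χ : G → ℂ) x) =
      Nat.card ((commutator Q).comap π) * (B : ℝ)) :
    ((commutator Q).index : ℝ) * ((Nat.card (commutator Q) : ℝ) - 1) ≤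
        (((commutator Q).index : ℝ) - 1) * A +
          ((Nat.card (commutator Q) : ℝ) - (commutator Q).index) * B ∧
      B ≤ (commutator Q).index ∧ A ≤ Nat.card (commutator Q) * B := by
  classical
  set n := Nat.card (commutator Q)
  set f := (commutator Q).index
  set k := Nat.card π.ker with hk
  have hfp : 0 < f := Nat.pos_of_ne_zero (commutator Q).index_ne_zero_of_finite
  have hnp : 0 < n := Nat.card_pos
  have hkp : 0 < k := Nat.card_pos
  have hkerle : π.ker ≤ (commutator Q).comap π := fun x hx => by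
    rw [MonoidHom.mem_ker] at hx
    simp [hx]
  have hQc : Nat.card Q = n * f := (commutator Q).card_mul_index.symm
  have hG : Nat.card G = k * (n * f) := by
    rw [← π.ker.card_mul_index, Subgroup.index_ker, MonoidHom.range_eq_top.mpr hπ,
      Subgroup.card_top, hQc]
  have hL : Nat.card ((commutator Q).comap π) = k * n := by
    have h := ((commutator Q).comap π).card_mul_index
    rw [index_comap hπ, hG, ← mul_assoc] at h
    exact Nat.eq_of_mul_eq_mul_right hfp h
  -- the nonlinear degrees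
  have hS : ((n : ℝ) - 1) ≤ ((∑ ψ : Cfsg.IrrCharacter Q, if Cfsg.charDegree (ψ : Q → ℂ) ≠ 1 then
        Cfsg.charDegree (ψ : Q → ℂ) else 0 : ℕ) : ℝ) := by
    have h1 : ((Nat.card Q : ℝ) - f) ≤ f * ((∑ ψ : Cfsg.IrrCharacter Q,
        if Cfsg.charDegree (ψ : Q → ℂ) ≠ 1 then Cfsg.charDegree (ψ : Q → ℂ) else 0 : ℕ) : ℝ) := by
      rw [← nonlinear_sq_sum, Nat.cast_sum, Finset.mul_sum]
      refine Finset.sum_le_sum fun ψ _ => ?_
      by_cases h : Cfsg.charDegree (ψ : Q → ℂ) ≠ 1
      · rw [if_pos h, if_pos h, sq]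
        exact mul_le_mul_of_nonneg_right (by exact_mod_cast (degree_bounds hQ hnc h).1)
          (Nat.cast_nonneg _)
      · simp [h]
    rw [hQc, Nat.cast_mul] at h1
    have : (0 : ℝ) < f := Nat.cast_pos.mpr hfp
    nlinarith
  have havg := avg_le hπ hb χ hχ
  have hrhs : ∑ g, ‖(χ : G → ℂ) g‖ ^ 2 *
        ((Nat.card (Subgroup.centralizer ({π g} : Set Q)) : ℝ) - f) =
      ((n : ℝ) * f - n) * sumSq (fun x : π.ker => (χ : G → ℂ) x) +
        ((n : ℝ) - f) * sumSq (fun x : (commutator Q).comap π => (χ : G → ℂ) x) := by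
    rw [sum_subgroup, sum_subgroup, Finset.mul_sum, Finset.mul_sum, ← Finset.sum_add_distrib]
    refine Finset.sum_congr rfl fun g _ => ?_
    by_cases h1 : g ∈ π.ker
    · rw [if_pos h1, if_pos (hkerle h1)]
      rw [MonoidHom.mem_ker] at h1
      rw [h1, show Nat.card (Subgroup.centralizer ({1} : Set Q)) = n * f by
        rw [Subgroup.centralizer_eq_top_iff_subset.mpr (by simp), Subgroup.card_top, hQc]]
      push_cast
      ring
    · rw [if_neg h1]
      rw [MonoidHom.mem_ker] at h1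
      by_cases h2 : g ∈ (commutator Q).comap π
      · rw [if_pos h2, card_centralizer_of_mem hQ hnc h2 h1]
        ring
      · rw [if_neg h2, card_centralizer_of_notMem hQ hnc h2]
        ring
  rw [hrhs, hA, hB, hL, hG] at havg
  push_cast at havg
  have hkn : (0 : ℝ) < (k : ℝ) * n := mul_pos (Nat.cast_pos.mpr hkp) (Nat.cast_pos.mpr hnp)
  refine ⟨?_, ?_, ?_⟩
  · have h2 := mul_le_mul_of_nonneg_right hS
      (show (0 : ℝ) ≤ (k : ℝ) * (n * f) by positivity)
    refine le_of_mul_le_mul_left ?_ hkn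
    push_cast at h2 ⊢
    linarith
  · have h1 : sumSq (fun x : (commutator Q).comap π => (χ : G → ℂ) x) ≤ Nat.card G := by
      rw [← DegreeTools.sum_norm_sq χ, sum_subgroup]
      exact Finset.sum_le_sum fun g _ => by split_ifs <;> [exact le_rfl; positivity]
    rw [hB, hL, hG] at h1
    have : (k : ℝ) * n * B ≤ k * n * f := by push_cast at h1; linarith
    exact_mod_cast le_of_mul_le_mul_left this hkn
  · have h1 : sumSq (fun x : π.ker => (χ : G → ℂ) x) ≤
        sumSq (fun x : (commutator Q).comap π => (χ : G → ℂ) x) := by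
      rw [sum_subgroup, sum_subgroup]
      refine Finset.sum_le_sum fun g _ => ?_
      by_cases h1 : g ∈ π.ker
      · rw [if_pos h1, if_pos (hkerle h1)]
      · rw [if_neg h1]
        split_ifs <;> positivity
    rw [hA, hB, hL] at h1
    have h2 : (k : ℝ) * A ≤ (k : ℝ) * (n * B) := by push_cast at h1; linarith
    exact_mod_cast le_of_mul_le_mul_left h2 (Nat.cast_pos.mpr hkp)

/-- The non-central case. -/
theorem step_noncentral : ∃ H : Subgroup G, H.index ≤ b ^ 2 ∧ DegLE H (b - 1) := by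
  classical
  set M := commutator Q
  set n := Nat.card M
  set f := M.index
  have hnorm : π.ker.Normal := inferInstance
  have hLnorm : (M.comap π).Normal := inferInstance
  obtain ⟨g₀, m₀, hm₀, hne₀⟩ := exists_mover hQ hnc
  have hg₀ : g₀ ∉ M := fun h => hne₀ (hQ.ab m₀ hm₀ g₀ h)
  have hf2 : 2 ≤ f := M.one_lt_index_of_ne_top fun h => hg₀ (h ▸ Subgroup.mem_top _)
  have hn2 : 2 ≤ n := M.one_lt_card_iff_ne_bot.mpr hQ.nonab
  have hdvd : f ∣ n - 1 := index_dvd hQ hnc
  have hfn : f < n := by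
    have := Nat.le_of_dvd (by omega) hdvd
    omega
  have hcop : Nat.Coprime n f := by
    obtain ⟨c, hc⟩ := hdvd
    refine Nat.Coprime.symm (Nat.coprime_of_dvd' fun p hp hpf hpn => ?_)
    have h2 : p ∣ n - 1 := hpf.trans ⟨c, hc⟩
    have := Nat.dvd_sub hpn h2
    rwa [show n - (n - 1) = 1 by omega] at this
  have hC : (Subgroup.centralizer ({g₀} : Set Q)).index = n := by
    have h := (Subgroup.centralizer ({g₀} : Set Q)).card_mul_index
    rw [card_centralizer_of_notMem hQ hnc hg₀, ← M.card_mul_index, mul_comm (Nat.card M)] at h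
    exact Nat.eq_of_mul_eq_mul_left (show 0 < f by omega) h
  by_cases hL : ∀ χ : Cfsg.IrrCharacter G, Cfsg.charDegree (χ : G → ℂ) = b →
      ¬ Cfsg.IsIrrCharacter (M.comap π) (fun x : M.comap π => (χ : G → ℂ) x)
  · refine ⟨M.comap π, ?_, hb.drop _ hL⟩
    rw [index_comap hπ]
    obtain ⟨ψ, hψ⟩ := exists_nonlinear hQ
    refine (degree_bounds hQ hnc hψ).2.trans (Nat.pow_le_pow_left ?_ 2)
    have h1 := hb ⟨_, IsIrrCharacter.comp_surjective ψ.2 π hπ⟩
    simpa [Cfsg.charDegree] using h1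
  push Not at hL
  obtain ⟨χ₁, hd₁, hirr₁⟩ := hL
  have h1n : n ∣ b ^ 2 := by
    obtain ⟨A, hApos, hAdvd, hA⟩ := exists_norm_dvd π.ker χ₁
    obtain ⟨B, -, -, hB⟩ := exists_norm_dvd (M.comap π) χ₁
    have hB1 : B = 1 := by
      rw [sumSq_irr hirr₁] at hB
      exact_mod_cast (mul_eq_left₀ (Nat.cast_ne_zero.mpr Nat.card_pos.ne')).mp hB.symm
    obtain ⟨h1, -, h3⟩ := key hQ hnc hπ hb χ₁ hd₁ hA hB
    rw [hB1] at h1 h3
    have hA' : A = n := by
      refine le_antisymm (by rw [mul_one] at h3; exact h3) ?_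
      have hf' : (2 : ℝ) ≤ f := by exact_mod_cast hf2
      have : (n : ℝ) ≤ A := by
        push_cast at h1
        nlinarith
      exact_mod_cast this
    rw [← hd₁, ← hA']
    exact hAdvd
  have hbpos : 0 < b := hd₁ ▸ deg_pos χ₁
  by_cases hC' : ∀ χ : Cfsg.IrrCharacter G, Cfsg.charDegree (χ : G → ℂ) = b →
      ¬ Cfsg.IsIrrCharacter ((Subgroup.centralizer ({g₀} : Set Q)).comap π)
        (fun x : (Subgroup.centralizer ({g₀} : Set Q)).comap π => (χ : G → ℂ) x)
  · refine ⟨_, ?_, hb.drop _ hC'⟩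
    rw [index_comap hπ, hC]
    exact Nat.le_of_dvd (pow_pos hbpos 2) h1n
  push Not at hC'
  obtain ⟨χ₂, hd₂, hirr₂⟩ := hC'
  have h2f : f ∣ b ^ 2 := by
    obtain ⟨A, -, -, hA⟩ := exists_norm_dvd π.ker χ₂
    obtain ⟨B, -, hBdvd, hB⟩ := exists_norm_dvd (M.comap π) χ₂
    obtain ⟨h1, h2, -⟩ := key hQ hnc hπ hb χ₂ hd₂ hA hB
    have hAf : A ≤ f := by
      set C := (Subgroup.centralizer ({g₀} : Set Q)).comap π
      have hle : π.ker ≤ C := fun x hx => by
        rw [MonoidHom.mem_ker] at hx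
        simp [C, hx]
      have h4 : sumSq (fun x : π.ker => (χ₂ : G → ℂ) x) ≤
          sumSq (fun x : C => (χ₂ : G → ℂ) x) := by
        rw [sum_subgroup, sum_subgroup]
        refine Finset.sum_le_sum fun g _ => ?_
        by_cases h1 : g ∈ π.ker
        · rw [if_pos h1, if_pos (hle h1)]
        · rw [if_neg h1]
          split_ifs <;> positivity
      have hcC : Nat.card C = Nat.card π.ker * f := by
        have h5 := C.card_mul_index
        rw [index_comap hπ, hC, ← π.ker.card_mul_index, Subgroup.index_ker,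
          MonoidHom.range_eq_top.mpr hπ, Subgroup.card_top, ← M.card_mul_index,
          mul_comm (Nat.card M), ← mul_assoc] at h5
        exact Nat.eq_of_mul_eq_mul_right (by omega) h5
      rw [hA, sumSq_irr hirr₂, hcC, Nat.cast_mul] at h4
      exact_mod_cast le_of_mul_le_mul_left h4 (Nat.cast_pos.mpr Nat.card_pos)
    have hB' : B = f := by
      refine le_antisymm h2 ?_
      have hfn' : (f : ℝ) + 1 ≤ n := by exact_mod_cast hfn
      have hA' : (A : ℝ) ≤ f := by exact_mod_cast hAf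
      have hf' : (2 : ℝ) ≤ f := by exact_mod_cast hf2
      have : (f : ℝ) ≤ B := by nlinarith
      exact_mod_cast this
    rw [← hd₂, ← hB']
    exact hBdvd
  refine ⟨π.ker, ?_, hb.drop _ fun χ hχ hirr => ?_⟩
  · rw [Subgroup.index_ker, MonoidHom.range_eq_top.mpr hπ, Subgroup.card_top, ← M.card_mul_index]
    exact Nat.le_of_dvd (pow_pos hbpos 2) (hcop.mul_dvd_of_dvd_of_dvd h1n h2f)
  · obtain ⟨A, -, -, hA⟩ := exists_norm_dvd π.ker χ
    obtain ⟨B, -, -, hB⟩ := exists_norm_dvd (M.comap π) χ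
    have hle : π.ker ≤ M.comap π := fun x hx => by
      rw [MonoidHom.mem_ker] at hx
      simp [hx]
    have hirrL : Cfsg.IsIrrCharacter (M.comap π) (fun x : M.comap π => (χ : G → ℂ) x) := by
      refine irr_of_restrict (π.ker.subgroupOf (M.comap π))
        (IsCharacter.restrict (isCharacter_irr χ) _) ?_
      exact IsIrrCharacter.comp_equiv hirr (Subgroup.subgroupOfEquivOfLe hle)
    obtain ⟨h1, -, -⟩ := key hQ hnc hπ hb χ hχ hA hB
    have hA1 : A = 1 := by
      rw [sumSq_irr hirr] at hA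
      exact_mod_cast (mul_eq_left₀ (Nat.cast_ne_zero.mpr Nat.card_pos.ne')).mp hA.symm
    have hB1 : B = 1 := by
      rw [sumSq_irr hirrL] at hB
      exact_mod_cast (mul_eq_left₀ (Nat.cast_ne_zero.mpr Nat.card_pos.ne')).mp hB.symm
    rw [hA1, hB1] at h1
    push_cast at h1
    have hn' : (2 : ℝ) ≤ n := by exact_mod_cast hn2
    have hf' : (2 : ℝ) ≤ f := by exact_mod_cast hf2
    nlinarith

end NonCentral

/-- The step through a minimal non-abelian metabelian quotient. -/
theorem step_metabelian (hπ : Function.Surjective π) (hQ : Quot Q) {b : ℕ} (hb : DegLE G b) :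
    ∃ H : Subgroup G, H.index ≤ b ^ 2 ∧ DegLE H (b - 1) := by
  by_cases hc : commutator Q ≤ Subgroup.center Q
  · exact step_central hπ hQ hc hb
  · exact step_noncentral hQ hc hπ hb

end CfsgLib.Char.MaxDegree
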